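import Cfsg.Agent.SpThreeUnipotent.Gens

/-!
# The field with two elements

Here the third generator is the conjugate of `uReg` by the Siegel element of `e_0, e_2`.
-/

set_option autoImplicit false

namespace CfsgLib.SpThreeUnipotent

open Matrix CfsgLib.Forms Finset

variable {F : Type*} [Field F] {m : ℕ}

local notation "V" => (Fin m ⊕ Fin m → F)
local notation "G" => Matrix.symplecticGroup (Fin m) F
local notation "ω" => Cfsg.sympForm m F

theorem om_sum_left {ι : Type*} (s : Finset ι) (x : ι → V) (z : V) :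
    ω (∑ i ∈ s, x i) z = ∑ i ∈ s, ω (x i) z := by
  simp only [← sympBilin_apply, map_sum, LinearMap.sum_apply]

theorem om_sum_right {ι : Type*} (s : Finset ι) (x : ι → V) (z : V) :
    ω z (∑ i ∈ s, x i) = ∑ i ∈ s, ω z (x i) := by
  simp only [← sympBilin_apply, map_sum]

theorem act_zero (g : G) : act g (0 : V) = 0 := Matrix.mulVec_zero _

theorem act_sum (g : G) {ι : Type*} (s : Finset ι) (x : ι → V) :
    act g (∑ i ∈ s, x i) = ∑ i ∈ s, act g (x i) := Matrix.mulVec_sum _ _ _

theorem act_inv_eq {g : G} {x y : V} (h : act g x = y) : act g⁻¹ y = x := by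
  rw [← h, act_inv_act]

section

variable (h2 : (2 : F) = 0)

include h2 in
theorem vadd_self (x : V) : x + x = 0 := by
  rw [← two_smul F x, h2, zero_smul]

include h2 in
theorem vneg_eq (x : V) : -x = x := neg_eq_of_add_eq_zero_left (vadd_self h2 x)

include h2 in
theorem fneg_eq (a : F) : -a = a := by linear_combination -a * h2

include h2 in
theorem om_symm (x y : V) : ω x y = ω y x := by rw [sympForm_swap, fneg_eq h2]

include h2 in
theorem om_ef2 {i j : ℕ} (hj : j < m) : ω (ev j : V) (fv i) = if i = j then 1 else 0 := by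
  rw [om_symm h2, om_fe hj]

include h2 in
theorem act_siegel_one {a b : V} (h : ω a b = 0) (z : V) :
    act (siegel a b 1) z = z + ω z a • b + ω z b • a := by
  rw [act_siegel h, one_mul, one_mul]

/-! ### Values of `u` and `v⁻¹` -/

include h2 in
theorem act_uReg_ev_partial : ∀ n, n < m →
    act (uReg m F) (∑ k ∈ range (n + 1), ev k) = (ev n : V) := by
  intro n
  induction n with
  | zero => intro hn; rw [sum_range_one, act_uReg_ev_zero hn]
  | succ n ih =>
    intro hn
    rw [sum_range_succ, act_add, ih (by omega), act_uReg_ev hn, add_left_comm, vadd_self h2,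
      add_zero]

include h2 in
theorem act_uReg_fv_partial : ∀ n, n < m →
    act (uReg m F) (fv 0 + fv n) = (∑ k ∈ range n, fv k : V) := by
  intro n
  induction n with
  | zero => intro _; rw [vadd_self h2, act_zero, sum_range_zero]
  | succ n ih =>
    intro hn
    have e : (fv 0 + fv (n + 1) : V) = (fv 0 + fv n) + (fv n + fv (n + 1)) := by
      rw [add_assoc, ← add_assoc (fv n : V), vadd_self h2, zero_add]
    rw [e, act_add, ih (by omega), act_uReg_fv hn, sum_range_succ]

include h2 in
theorem act_uReg_fv_last_add (hm : 0 < m) :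
    act (uReg m F) (fv (m - 1) + ∑ k ∈ range m, ev k) = (fv (m - 1) : V) := by
  have h := act_uReg_ev_partial (F := F) (m := m) h2 (m - 1) (by omega)
  rw [show m - 1 + 1 = m by omega] at h
  rw [act_add, act_uReg_fv_last hm, h, add_assoc, vadd_self h2, add_zero]

include h2 in
theorem act_uReg_sum_fv (hm : 0 < m) :
    act (uReg m F) (fv 0 + ∑ k ∈ range m, ev k) = (∑ k ∈ range m, fv k : V) := by
  have e : (fv 0 + ∑ k ∈ range m, ev k : V) =
      (fv 0 + fv (m - 1)) + (fv (m - 1) + ∑ k ∈ range m, ev k) := by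
    rw [add_assoc, ← add_assoc (fv (m - 1) : V), vadd_self h2, zero_add]
  rw [e, act_add, act_uReg_fv_partial h2 _ (by omega), act_uReg_fv_last_add h2 hm,
    ← sum_range_succ, show m - 1 + 1 = m by omega]

include h2 in
theorem act_vConj_one_fv (k : ℕ) : act (vConj m (1 : Fˣ)) (fv k) = (ev k : V) := by
  rw [act_vConj_fv, Units.val_one, one_smul, vneg_eq h2]

theorem act_vConj_one_ev (k : ℕ) : act (vConj m (1 : Fˣ)) (ev k) = (fv k : V) := by
  rw [act_vConj_ev, inv_one, Units.val_one, one_smul]

include h2 in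
theorem act_vinv_ev {k : ℕ} (hk : k + 1 < m) :
    act (vReg m (1 : Fˣ))⁻¹ (ev k) = (ev k + ev (k + 1) : V) := by
  have h := act_vReg_conj (1 : Fˣ) (fv k + fv (k + 1) : V)
  rw [act_uReg_fv hk, act_add (vConj m 1), act_vConj_one_fv h2, act_vConj_one_fv h2] at h
  exact act_inv_eq h

include h2 in
theorem act_vinv_ev_last (hm : 0 < m) :
    act (vReg m (1 : Fˣ))⁻¹ (ev (m - 1)) = (ev (m - 1) + ∑ k ∈ range m, fv k : V) := by
  have h := act_vReg_conj (1 : Fˣ) (fv (m - 1) + ∑ k ∈ range m, ev k : V)
  rw [act_uReg_fv_last_add h2 hm, act_add (vConj m 1), act_vConj_one_fv h2, act_sum (vConj m 1),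
    sum_congr rfl fun k _ => act_vConj_one_ev k] at h
  exact act_inv_eq h

theorem act_vinv_fv_zero (hm : 0 < m) : act (vReg m (1 : Fˣ))⁻¹ (fv 0) = (fv 0 : V) := by
  have h := act_vReg_conj (1 : Fˣ) (ev 0 : V)
  rw [act_uReg_ev_zero hm, act_vConj_one_ev] at h
  exact act_inv_eq h

/-! ### Siegel elements in a subgroup -/

variable {H : Subgroup (Matrix.symplecticGroup (Fin m) F)}

theorem siegel_map {a b : V} (h : siegel a b 1 ∈ H) {g : G} (hg : g ∈ H) :
    siegel (act g a) (act g b) 1 ∈ H := by
  rw [← conj_siegel]; exact mul_mem (mul_mem hg h) (inv_mem hg)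

theorem siegel_symm {a b : V} (h : ω a b = 0) (h' : siegel a b 1 ∈ H) : siegel b a 1 ∈ H := by
  rwa [← siegel_comm a b h]

theorem siegel_add {a b b' : V} (h : ω a b = 0) (h' : ω a b' = 0) (hb : ω b' b = 0)
    (hx : siegel a b 1 ∈ H) (hy : siegel a b' 1 ∈ H) : siegel a (b + b') 1 ∈ H := by
  have := mul_mem hx hy
  rwa [siegel_mul_siegel h h', hb, mul_zero, spTransv_zero, mul_one] at this

theorem siegel_add_left {a a' b : V} (h : ω a b = 0) (h' : ω a' b = 0) (ha : ω a' a = 0)
    (hx : siegel a b 1 ∈ H) (hy : siegel a' b 1 ∈ H) : siegel (a + a') b 1 ∈ H := by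
  have e : ω b a = 0 := by rw [sympForm_swap, h, neg_zero]
  have e' : ω b a' = 0 := by rw [sympForm_swap, h', neg_zero]
  exact siegel_symm (by rw [om_add_right, e, e', add_zero])
    (siegel_add e e' ha (siegel_symm h hx) (siegel_symm h' hy))

include h2 in
theorem siegel_cancel {a b b' : V} (h : ω a b = 0) (h' : ω a b' = 0) (hb : ω b' b = 0)
    (hx : siegel a b 1 ∈ H) (hy : siegel a (b + b') 1 ∈ H) : siegel a b' 1 ∈ H := by
  have := siegel_add h (by rw [om_add_right, h, h', add_zero] : ω a (b + b') = 0)
    (by rw [om_add_left, sympForm_self, hb, add_zero]) hx hy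
  rwa [← add_assoc, vadd_self h2, zero_add] at this

include h2 in
theorem siegel_cancel_left {a a' b : V} (h : ω a b = 0) (h' : ω a' b = 0) (ha : ω a' a = 0)
    (hx : siegel a b 1 ∈ H) (hy : siegel (a + a') b 1 ∈ H) : siegel a' b 1 ∈ H := by
  have := siegel_add_left h (by rw [om_add_left, h, h', add_zero] : ω (a + a') b = 0)
    (by rw [om_add_left, sympForm_self, ha, add_zero]) hx hy
  rwa [← add_assoc, vadd_self h2, zero_add] at this

include h2 in
theorem siegel_self (a : V) : siegel a a (1 : F) = 1 := by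
  refine sp_ext fun z => ?_
  show act _ z = act _ z
  rw [act_siegel_one h2 (sympForm_self a), act_one, add_assoc, vadd_self h2, add_zero]

variable (hm : 3 ≤ m) (hu : uReg m F ∈ H) (hv : vReg m (1 : Fˣ) ∈ H)
  (hT : siegel (ev 0) (ev 1) 1 ∈ H)

include h2 hu hv hT in
/-- All Siegel elements of two `e`'s. -/
theorem siegel_ee_mem : ∀ n, n < m → ∀ i j, i ≤ n → j ≤ n →
    siegel (ev i : V) (ev j) 1 ∈ H := by
  have hσ := inv_mem hv
  intro n
  induction n with
  | zero =>
    intro _ i j hi hj
    rw [Nat.le_zero.1 hi, Nat.le_zero.1 hj, siegel_self h2]; exact one_mem H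
  | succ n ih =>
    intro hn
    have hlast : ∀ i, i ≤ n → siegel (ev i : V) (ev (n + 1)) 1 ∈ H := by
      rcases Nat.eq_zero_or_pos n with rfl | hn0
      · intro i hi; rw [Nat.le_zero.1 hi]; exact hT
      have hP : ∀ i, i < n → siegel (ev i + ev (i + 1) : V) (ev (n + 1)) 1 ∈ H := by
        intro i hi
        have h1 := siegel_map (ih (by omega) i n (by omega) le_rfl) hσ
        rw [act_vinv_ev h2 (by omega), act_vinv_ev h2 hn] at h1
        refine siegel_cancel h2 (b := (ev n : V)) ?_ ?_ (om_ee _ _) ?_ h1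
        · rw [om_add_left, om_ee, om_ee, add_zero]
        · rw [om_add_left, om_ee, om_ee, add_zero]
        · exact siegel_add_left (om_ee _ _) (om_ee _ _) (om_ee _ _) (ih (by omega) i n (by omega) le_rfl)
            (ih (by omega) (i + 1) n (by omega) le_rfl)
      have h1 := siegel_map (hP 0 hn0) hu
      rw [act_add, act_uReg_ev_zero (by omega), act_uReg_ev (by omega : 0 + 1 < m),
        act_uReg_ev hn, add_comm (ev (0 + 1) : V), ← add_assoc, vadd_self h2, zero_add, zero_add,
        add_comm (ev (n + 1) : V)] at h1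
      have h1' : siegel (ev 1 : V) (ev (n + 1)) 1 ∈ H :=
        siegel_cancel h2 (om_ee _ _) (om_ee _ _) (om_ee _ _) (ih (by omega) 1 n hn0 le_rfl) h1
      intro i
      induction i with
      | zero =>
        intro _
        refine siegel_cancel_left h2 (om_ee _ _) (om_ee _ _) (om_ee _ _) h1' ?_
        rw [add_comm]; exact hP 0 hn0
      | succ i ihi =>
        intro hi
        exact siegel_cancel_left h2 (om_ee _ _) (om_ee _ _) (om_ee _ _) (ihi (by omega))
          (hP i (by omega))
    intro i j hi hj
    rcases Nat.lt_or_ge i (n + 1) with hi' | hi' <;> rcases Nat.lt_or_ge j (n + 1) with hj' | hj'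
    · exact ih (by omega) i j (by omega) (by omega)
    · rw [show j = n + 1 by omega]; exact hlast i (by omega)
    · rw [show i = n + 1 by omega]; exact siegel_symm (om_ee _ _) (hlast j (by omega))
    · rw [show i = n + 1 by omega, show j = n + 1 by omega, siegel_self h2]; exact one_mem H

include h2 hu hv hT in
theorem siegel_e_sum_mem {i : ℕ} (hi : i < m) : ∀ n, n ≤ m →
    siegel (ev i : V) (∑ k ∈ range n, ev k) 1 ∈ H := by
  intro n
  induction n with
  | zero =>
    intro _
    have : siegel (ev i : V) 0 (1 : F) = 1 := sp_ext fun z => by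
      show act _ z = act _ z
      rw [act_siegel_one h2 (om_zero_right _), act_one, om_zero_right, smul_zero, zero_smul,
        add_zero, add_zero]
    rw [sum_range_zero, this]; exact one_mem H
  | succ n ih =>
    intro hn
    rw [sum_range_succ]
    refine siegel_add ?_ (om_ee _ _) ?_ (ih (by omega))
      (siegel_ee_mem h2 hu hv hT (m - 1) (by omega) i n (by omega) (by omega))
    · rw [om_sum_right]; exact sum_eq_zero fun k _ => om_ee _ _
    · rw [om_sum_right]; exact sum_eq_zero fun k _ => om_ee _ _

include h2 hm hv hu hT in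
/-- The Siegel element of `e_0 + e_1` and the sum of all `f`'s, times a transvection. -/
theorem siegel_p_sum_mul_mem :
    siegel (ev 0 + ev 1 : V) (∑ k ∈ range m, fv k) 1 * spTransv (ev 0 + ev 1) 1 ∈ H := by
  have hee := siegel_ee_mem h2 hu hv hT (m - 1) (by omega)
  set p : V := ev 0 + ev 1
  set Q : V := ∑ k ∈ range m, fv k
  have ha : ω p (ev (m - 1)) = 0 := by rw [om_add_left, om_ee, om_ee, add_zero]
  have hQ : ω Q (ev (m - 1)) = 1 := by
    rw [om_sum_left, sum_eq_single (m - 1), om_fe (by omega), if_pos rfl]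
    · intro k _ hk; rw [om_fe (by omega), if_neg hk]
    · intro h; exact absurd (Finset.mem_range.2 (by omega)) h
  have h1 : siegel p (ev (m - 1)) 1 ∈ H :=
    siegel_add_left (om_ee _ _) (om_ee _ _) (om_ee _ _) (hee 0 _ (by omega) le_rfl)
      (hee 1 _ (by omega) le_rfl)
  have h0 := siegel_map (hee 0 (m - 1) (by omega) le_rfl) (inv_mem hv)
  rw [act_vinv_ev h2 (by omega), act_vinv_ev_last h2 (by omega)] at h0
  have hb' : ω p (ev (m - 1) + Q) = 0 := by
    have h := om_act (vReg m (1 : Fˣ))⁻¹ (ev 0 : V) (ev (m - 1))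
    rwa [act_vinv_ev h2 (by omega), act_vinv_ev_last h2 (by omega), om_ee] at h
  have := mul_mem h1 h0
  rwa [siegel_mul_siegel ha hb', ← add_assoc, vadd_self h2, zero_add, om_add_left, sympForm_self,
    zero_add, hQ, one_mul, one_mul] at this

include h2 hm hu hv hT in
theorem siegel_e1_f0_mem : siegel (ev 1 : V) (fv 0) 1 ∈ H := by
  set s : V := ∑ k ∈ range m, ev k
  have hs : siegel (ev 1 : V) s 1 ∈ H := siegel_e_sum_mem h2 hu hv hT (by omega) m le_rfl
  have h := siegel_p_sum_mul_mem h2 hm hu hv hT
  have hp : act (uReg m F) (ev 1) = (ev 0 + ev 1 : V) := by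
    rw [act_uReg_ev (k := 0) (by omega), add_comm]
  rw [← hp, ← act_uReg_sum_fv h2 (by omega), ← conj_siegel, ← conj_spTransv] at h
  have h' : siegel (ev 1 : V) (fv 0 + s) 1 * spTransv (ev 1) 1 ∈ H := by
    have := mul_mem (mul_mem (inv_mem hu) h) hu
    convert this using 1
    group
    rfl
  have hw : ω (ev 1 : V) (fv 0) = 0 := by rw [om_ef2 h2 (by omega), if_neg (by omega)]
  have hs0 : ω (ev 1 : V) s = 0 := by rw [om_sum_right]; exact sum_eq_zero fun k _ => om_ee _ _
  have hsf : ω s (fv 0) = 1 := by
    rw [om_sum_left, sum_eq_single 0, om_ef2 h2 (by omega), if_pos rfl]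
    · intro k hk hk'
      rw [om_ef2 h2 (Finset.mem_range.1 hk), if_neg (Ne.symm hk')]
    · intro h; exact absurd (Finset.mem_range.2 (by omega)) h
  have e := siegel_mul_siegel hw hs0 (1 : F)
  rw [hsf, one_mul, one_mul] at e
  rw [← e] at h'
  have := mul_mem h' (inv_mem hs)
  rwa [mul_inv_cancel_right] at this

include h2 hm hu hv hT in
theorem siegel_ef_zero_mem : ∀ i, i + 1 < m → siegel (ev (i + 1) : V) (fv 0) 1 ∈ H := by
  intro i
  induction i with
  | zero => intro _; exact siegel_e1_f0_mem h2 hm hu hv hT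
  | succ i ih =>
    intro hi
    have h := siegel_map (ih (by omega)) (inv_mem hv)
    rw [act_vinv_ev h2 hi, act_vinv_fv_zero (by omega)] at h
    refine siegel_cancel_left h2 ?_ ?_ (om_ee _ _) (ih (by omega)) h
    · rw [om_ef2 h2 (by omega), if_neg (by omega)]
    · rw [om_ef2 h2 hi, if_neg (by omega)]

include h2 hm hu hv hT in
theorem siegel_ef_mem : ∀ j, j < m → ∀ i, i < m → i ≠ j → siegel (ev i : V) (fv j) 1 ∈ H := by
  intro j
  induction j with
  | zero =>
    intro _ i hi hi0
    obtain ⟨i, rfl⟩ : ∃ k, i = k + 1 := ⟨i - 1, by omega⟩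
    exact siegel_ef_zero_mem h2 hm hu hv hT i hi
  | succ j ih =>
    intro hj
    have ih' := ih (by omega)
    have hf : act (uReg m F)⁻¹ (fv j) = (fv j + fv (j + 1) : V) := act_inv_eq (act_uReg_fv hj)
    have hne : ∀ {a b : ℕ}, a < m → a ≠ b → ω (ev a : V) (fv b) = 0 := fun {a b} ha hab => by
      rw [om_ef2 h2 ha, if_neg (Ne.symm hab)]
    intro i hi hij
    by_cases hij' : i = j
    · subst hij'
      set g : G := siegel (ev (i + 1)) (fv i) 1
      have hg : g ∈ H := ih' (i + 1) hj (by omega)
      have hgo := hne hj (by omega : i + 1 ≠ i)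
      -- the element moved by `u⁻¹`
      have h1 : siegel (act (uReg m F) (ev i + ev (i + 1)) : V) (fv i) 1 ∈ H := by
        rcases Nat.eq_zero_or_pos i with rfl | hi0
        · rw [act_add, act_uReg_ev_zero (by omega), act_uReg_ev hj, add_left_comm, vadd_self h2,
            add_zero]
          exact ih' 1 hj (by omega)
        · obtain ⟨k, rfl⟩ : ∃ k, i = k + 1 := ⟨i - 1, by omega⟩
          rw [act_add, act_uReg_ev (by omega), act_uReg_ev hj, add_comm (ev (k + 1 + 1) : V),
            ← add_assoc, add_right_comm (ev (k + 1) : V), vadd_self h2, zero_add]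
          exact siegel_add_left (hne (by omega) (by omega)) (hne hj (by omega)) (om_ee _ _)
            (ih' k (by omega) (by omega)) (ih' _ hj (by omega))
      have h3 := siegel_map h1 (inv_mem hu)
      rw [act_inv_act, hf] at h3
      have h4 := siegel_map h3 hg
      have e1 : act g (ev i + ev (i + 1)) = (ev i : V) := by
        rw [act_siegel_one h2 hgo, om_add_left, om_add_left, om_ee, om_ee, om_ef2 h2 hi,
          if_pos rfl, om_ef2 h2 hj, if_neg (by omega), add_zero, add_zero, zero_smul, one_smul,
          add_zero, add_assoc, vadd_self h2, add_zero]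
      have e2 : act g (fv i + fv (i + 1)) = (fv (i + 1) : V) := by
        rw [act_siegel_one h2 hgo, om_add_left, om_add_left, om_ff, om_ff, om_fe hj,
          if_neg (by omega), om_fe hj, if_pos rfl, zero_add, zero_add, zero_smul, one_smul,
          add_zero, add_comm, ← add_assoc, vadd_self h2, zero_add]
      rwa [e1, e2] at h4
    · have h1 : siegel (act (uReg m F) (ev i) : V) (fv j) 1 ∈ H := by
        rcases Nat.eq_zero_or_pos i with rfl | hi0
        · rw [act_uReg_ev_zero (by omega)]; exact ih' 0 hi hij'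
        · obtain ⟨k, rfl⟩ : ∃ k, i = k + 1 := ⟨i - 1, by omega⟩
          rw [act_uReg_ev hi]
          exact siegel_add_left (hne hi hij') (hne (by omega) (by omega)) (om_ee _ _)
            (ih' _ hi hij') (ih' k (by omega) (by omega))
      have h3 := siegel_map h1 (inv_mem hu)
      rw [act_inv_act, hf] at h3
      exact siegel_cancel h2 (hne hi hij') (hne hi hij) (om_ff _ _) (ih' i hi hij') h3

include h2 hm hu hv hT in
theorem spTransv_p_mem : spTransv (ev 0 + ev 1 : V) 1 ∈ H := by
  have hef := siegel_ef_mem h2 hm hu hv hT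
  set p : V := ev 0 + ev 1
  have hne : ∀ {a b : ℕ}, a < m → a ≠ b → ω (ev a : V) (fv b) = 0 := fun {a b} ha hab => by
    rw [om_ef2 h2 ha, if_neg (Ne.symm hab)]
  have hQ : ∀ n, 2 ≤ n → n ≤ m →
      ω p (∑ k ∈ range n, fv k) = 0 ∧ siegel p (∑ k ∈ range n, fv k) 1 ∈ H := by
    intro n hn2
    induction n, hn2 using Nat.le_induction with
    | base =>
      intro _
      rw [sum_range_succ, sum_range_one]
      constructor
      · rw [om_add_left, om_add_right, om_add_right, om_ef2 h2 (by omega), if_pos rfl,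
          hne (by omega) (by omega), hne (by omega) (by omega), om_ef2 h2 (by omega), if_pos rfl,
          add_zero, zero_add, one_add_one_eq_two, h2]
      · have hp : act (uReg m F) (ev 0 + ev 1) = (ev 1 : V) := by
          rw [act_add, act_uReg_ev_zero (by omega), act_uReg_ev (k := 0) (by omega), add_left_comm,
            vadd_self h2, add_zero]
        have h := siegel_map (hef 0 (by omega) 1 (by omega) (by omega)) (inv_mem hu)
        rwa [act_inv_eq hp, act_inv_eq (act_uReg_fv (k := 0) (by omega))] at h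
    | succ n hn2 ih =>
      intro hn
      obtain ⟨h1, h1'⟩ := ih (by omega)
      have h3 : ω p (fv n) = 0 := by
        rw [om_add_left, hne (by omega) (by omega), hne (by omega) (by omega), add_zero]
      rw [sum_range_succ]
      refine ⟨by rw [om_add_right, h1, h3, add_zero], ?_⟩
      refine siegel_add h1 h3 ?_ h1' ?_
      · rw [om_sum_right]; exact sum_eq_zero fun k _ => om_ff _ _
      · exact siegel_add_left (hne (by omega) (by omega)) (hne (by omega) (by omega)) (om_ee _ _)
          (hef n (by omega) 0 (by omega) (by omega)) (hef n (by omega) 1 (by omega) (by omega))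
  have := mul_mem (inv_mem (hQ m (by omega) le_rfl).2) (siegel_p_sum_mul_mem h2 hm hu hv hT)
  rwa [inv_mul_cancel_left] at this

/-! ### Every vector is a centre -/

variable (h01 : ∀ c : F, c = 0 ∨ c = 1)

include h01 in
theorem centre_of_mem {w : V} (h : spTransv w 1 ∈ H) : Centre H w := fun c => by
  rcases h01 c with rfl | rfl
  · rw [spTransv_zero]; exact one_mem H
  · exact h

include h2 hm hu hv hT h01 in
theorem centre_ev_one : Centre H (ev 1 : V) := by
  refine centre_of_mem h01 ?_
  have hp : act (uReg m F) (ev 1) = (ev 0 + ev 1 : V) := by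
    rw [act_uReg_ev (k := 0) (by omega), add_comm]
  have := mul_mem (mul_mem (inv_mem hu) (spTransv_p_mem h2 hm hu hv hT)) hu
  rw [← hp, ← conj_spTransv] at this
  convert this using 1
  group

include h2 hm hu hv hT h01 in
theorem centre_sum_ev (s : Finset (Fin m)) : Centre H (∑ i ∈ s, ev (i : ℕ) : V) := by
  classical
  have hef := siegel_ef_mem h2 hm hu hv hT
  have hne : ∀ {a b : ℕ}, a < m → a ≠ b → ω (ev a : V) (fv b) = 0 := fun {a b} ha hab => by
    rw [om_ef2 h2 ha, if_neg (Ne.symm hab)]
  have hadd : ∀ {x : V} {i j : ℕ}, Centre H x → (∀ k, ω x (ev k) = 0) → i < m → j < m → i ≠ j →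
      ω x (fv j) = 1 → Centre H (x + ev i) := by
    intro x i j hx hxe hi hj hij hxj
    have := hx.map (hef j hj i hi hij)
    rwa [act_siegel_one h2 (hne hi hij), hxe, zero_smul, add_zero, hxj, one_smul] at this
  have hbase : ∀ i : ℕ, i < m → Centre H (ev i : V) := by
    intro i hi
    by_cases hi1 : i = 1
    · subst hi1; exact centre_ev_one h2 hm hu hv hT h01
    · have h1 := hadd (centre_ev_one h2 hm hu hv hT h01) (fun k => om_ee _ _) hi
        (show 1 < m by omega) hi1 (by rw [om_ef2 h2 (by omega), if_pos rfl])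
      have h3 := hadd h1 (fun k => by rw [om_add_left, om_ee, om_ee, add_zero])
        (show 1 < m by omega) hi (Ne.symm hi1)
        (by rw [om_add_left, hne (by omega) (Ne.symm hi1), om_ef2 h2 hi, if_pos rfl, zero_add])
      rwa [add_comm (ev 1 : V), add_assoc, vadd_self h2, add_zero] at h3
  induction s using Finset.induction with
  | empty => rw [sum_empty]; exact Centre.zero H
  | insert i s his ih =>
    rw [sum_insert his]
    rcases s.eq_empty_or_nonempty with rfl | ⟨j, hj⟩
    · rw [sum_empty, add_zero]; exact hbase i i.2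
    · rw [add_comm]
      refine hadd ih (fun k => ?_) i.2 j.2
        (fun h => his (by rwa [show i = j from Fin.ext h])) ?_
      · rw [om_sum_left]; exact sum_eq_zero fun k _ => om_ee _ _
      · rw [om_sum_left, sum_eq_single j, om_ef2 h2 j.2, if_pos rfl]
        · intro k _ hk; exact hne k.2 fun h => hk (Fin.ext h)
        · intro h; exact absurd hj h

include h2 hm hu hv hT h01 in
theorem centre_sum_fv (s : Finset (Fin m)) : Centre H (∑ i ∈ s, fv (i : ℕ) : V) := by
  classical
  have hef := siegel_ef_mem h2 hm hu hv hT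
  have hne : ∀ {a b : ℕ}, a < m → a ≠ b → ω (ev a : V) (fv b) = 0 := fun {a b} ha hab => by
    rw [om_ef2 h2 ha, if_neg (Ne.symm hab)]
  have hadd : ∀ {x : V} {i j : ℕ}, Centre H x → (∀ k, ω x (fv k) = 0) → i < m → j < m → i ≠ j →
      ω x (ev j) = 1 → Centre H (x + fv i) := by
    intro x i j hx hxf hi hj hij hxj
    have := hx.map (hef i hi j hj (Ne.symm hij))
    rwa [act_siegel_one h2 (hne hj (Ne.symm hij)), hxf, zero_smul, add_zero, hxj, one_smul] at this
  have hlast : Centre H (fv (m - 1) : V) := by
    have he : Centre H (ev (m - 1) : V) := by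
      have := centre_sum_ev h2 hm hu hv hT h01 {⟨m - 1, by omega⟩}
      rwa [sum_singleton] at this
    have h1 := he.map hv
    rw [act_vReg_ev_last (by omega : 0 < m), inv_one, Units.val_one, mul_one, fneg_eq h2,
      one_smul] at h1
    have h3 := he.add h1 (by
      rw [om_add_right, sympForm_self, zero_add, om_ef2 h2 (by omega), if_pos rfl]
      exact one_ne_zero)
    rwa [← add_assoc, vadd_self h2, zero_add] at h3
  have hbase : ∀ i : ℕ, i < m → Centre H (fv i : V) := by
    intro i hi
    by_cases hi1 : i = m - 1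
    · subst hi1; exact hlast
    · have h1 := hadd hlast (fun k => om_ff _ _) hi (show m - 1 < m by omega) hi1
        (by rw [om_fe (by omega), if_pos rfl])
      have h3 := hadd h1 (fun k => by rw [om_add_left, om_ff, om_ff, add_zero])
        (show m - 1 < m by omega) hi (Ne.symm hi1)
        (by rw [om_add_left, om_fe hi, if_neg (Ne.symm hi1), om_fe hi, if_pos rfl, zero_add])
      rwa [add_comm (fv (m - 1) : V), add_assoc, vadd_self h2, add_zero] at h3
  induction s using Finset.induction with
  | empty => rw [sum_empty]; exact Centre.zero H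
  | insert i s his ih =>
    rw [sum_insert his]
    rcases s.eq_empty_or_nonempty with rfl | ⟨j, hj⟩
    · rw [sum_empty, add_zero]; exact hbase i i.2
    · rw [add_comm]
      refine hadd ih (fun k => ?_) i.2 j.2
        (fun h => his (by rwa [show i = j from Fin.ext h])) ?_
      · rw [om_sum_left]; exact sum_eq_zero fun k _ => om_ff _ _
      · rw [om_sum_left, sum_eq_single j, om_fe j.2, if_pos rfl]
        · intro k _ hk; rw [om_fe j.2, if_neg fun h => hk (Fin.ext h)]
        · intro h; exact absurd hj h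

include h2 hm hu hv hT h01 in
theorem eq_top_of_two : H = ⊤ := by
  classical
  refine eq_top_of_centre fun w => ?_
  have split : ∀ (a : Fin m → F) (g : ℕ → V),
      (∑ i : Fin m, a i • g i) = ∑ i ∈ univ.filter (fun i => a i = 1), g (i : ℕ) := fun a g => by
    rw [sum_filter]
    refine sum_congr rfl fun i _ => ?_
    rcases h01 (a i) with h | h <;> simp [h]
  rw [vec_eq_sum w, split (fun i => w (Sum.inl i)) ev, split (fun i => w (Sum.inr i)) fv]
  generalize univ.filter (fun i => w (Sum.inl i) = 1) = s
  generalize univ.filter (fun i => w (Sum.inr i) = 1) = t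
  have hS := centre_sum_ev h2 hm hu hv hT h01 s
  have hT' := centre_sum_fv h2 hm hu hv hT h01 t
  rcases t.eq_empty_or_nonempty with rfl | ⟨j, hj⟩
  · rwa [sum_empty, add_zero]
  set a : V := ∑ i ∈ s, ev (i : ℕ)
  set φ : V := ∑ i ∈ t, fv (i : ℕ)
  rcases h01 (ω a φ) with h0 | h1
  · set b : V := ev (j : ℕ)
    have hb : Centre H b := by
      have := centre_sum_ev h2 hm hu hv hT h01 {j}
      rwa [sum_singleton] at this
    have hbφ : ω b φ = 1 := by
      rw [om_sum_right, sum_eq_single j, om_ef2 h2 j.2, if_pos rfl]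
      · intro k _ hk; rw [om_ef2 h2 j.2, if_neg fun h => hk (Fin.ext h)]
      · intro h; exact absurd hj h
    have hba : ω b a = 0 := by rw [om_sum_right]; exact sum_eq_zero fun k _ => om_ee _ _
    have hab : Centre H (a + b) := by
      by_cases hjs : j ∈ s
      · have := centre_sum_ev h2 hm hu hv hT h01 (s.erase j)
        convert this using 1
        rw [show a = ev (j : ℕ) + ∑ i ∈ s.erase j, ev (i : ℕ) from
          (add_sum_erase s (fun i : Fin m => (ev (i : ℕ) : V)) hjs).symm]
        rw [add_comm, ← add_assoc, vadd_self h2, zero_add]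
      · have := centre_sum_ev h2 hm hu hv hT h01 (insert j s)
        rwa [sum_insert hjs, add_comm] at this
    have h3 := hab.add hT' (by rw [om_add_left, h0, hbφ, zero_add]; exact one_ne_zero)
    have h4 := hb.add h3 (by
      rw [om_add_right, om_add_right, hba, sympForm_self, hbφ, add_zero, zero_add]
      exact one_ne_zero)
    convert h4 using 1
    rw [add_comm a b, ← add_assoc b, ← add_assoc b, vadd_self h2, zero_add]
  · exact hS.add hT' (by rw [h1]; exact one_ne_zero)

end

/-- The field with two elements. -/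
theorem generate_two {F : Type*} [Field F] {m : ℕ} (hm : 3 ≤ m)
    (h2 : (2 : F) = 0) (h01 : ∀ c : F, c = 0 ∨ c = 1) :
    ∃ g h : Matrix.symplecticGroup (Fin m) F, Subgroup.closure ({uReg m F, g * uReg m F * g⁻¹,
      h * uReg m F * h⁻¹} : Set (Matrix.symplecticGroup (Fin m) F)) = ⊤ := by
  set S : Matrix.symplecticGroup (Fin m) F := siegel (ev 0) (ev 2) 1 with hS
  refine ⟨vConj m (1 : Fˣ), S, ?_⟩
  set H := Subgroup.closure ({uReg m F, vConj m (1 : Fˣ) * uReg m F * (vConj m (1 : Fˣ))⁻¹,
    S * uReg m F * S⁻¹} : Set (Matrix.symplecticGroup (Fin m) F))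
  have hu : uReg m F ∈ H := Subgroup.subset_closure (Or.inl rfl)
  have hv : vReg m (1 : Fˣ) ∈ H := Subgroup.subset_closure (Or.inr (Or.inl rfl))
  have hw : S * uReg m F * S⁻¹ ∈ H := Subgroup.subset_closure (Or.inr (Or.inr rfl))
  have h02 : Cfsg.sympForm m F (ev 0) (ev 2) = 0 := om_ee 0 2
  have hS1 : S⁻¹ = S := by rw [hS, siegel_inv h02, fneg_eq h2]
  have hT : siegel (ev 0) (ev 1) 1 ∈ H := by
    have h := mul_mem hw (inv_mem hu)
    rw [show S * uReg m F * S⁻¹ * (uReg m F)⁻¹ = S * (uReg m F * S⁻¹ * (uReg m F)⁻¹) by group,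
      hS1, hS, conj_siegel, act_uReg_ev_zero (by omega), act_uReg_ev (k := 1) (by omega),
      siegel_mul_siegel h02 (by rw [om_add_right, om_ee, om_ee, add_zero]),
      om_add_left, sympForm_self, om_ee, add_zero, mul_zero, spTransv_zero, mul_one,
      ← add_assoc, vadd_self h2, zero_add] at h
    exact h
  exact eq_top_of_two h2 hm hu hv hT h01

end CfsgLib.SpThreeUnipotent
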