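import Cfsg.Agent.SpThreeUnipotent.Big
import Cfsg.Agent.SpThreeUnipotent.Two

/-!
# Three conjugates of a regular unipotent element generate the symplectic group
-/

set_option autoImplicit false

namespace CfsgLib.SpThreeUnipotent

open Matrix CfsgLib.Forms

/-- Three conjugates of the regular unipotent element generate. -/
theorem exists_three_unipotent_generators {F : Type*} [Field F] [Fintype F] (n : ℕ) (hn : 2 ≤ n)
    (h22 : ¬ (n = 2 ∧ Fintype.card F = 2)) :
    ∃ g h : Matrix.symplecticGroup (Fin n) F, Subgroup.closure ({uReg n F, g * uReg n F * g⁻¹,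
      h * uReg n F * h⁻¹} : Set (Matrix.symplecticGroup (Fin n) F)) = ⊤ := by
  classical
  have h1 : 1 < Fintype.card F := Fintype.one_lt_card
  rcases Nat.lt_or_ge (Fintype.card F) 3 with h | h
  · have hc : Fintype.card F = 2 := by omega
    have h2 : (2 : F) = 0 := by
      have := FiniteField.cast_card_eq_zero F
      rwa [hc, Nat.cast_ofNat] at this
    refine generate_two (Nat.lt_of_le_of_ne hn fun e => h22 ⟨e.symm, hc⟩) h2 fun c => ?_
    by_contra hh
    push Not at hh
    have hle : ({0, 1, c} : Finset F).card ≤ Fintype.card F := Finset.card_le_univ _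
    rw [Finset.card_eq_three.2 ⟨0, 1, c, zero_ne_one, hh.1.symm, hh.2.symm, rfl⟩, hc] at hle
    omega
  · rcases Nat.eq_or_lt_of_le h with h | h
    · exact generate_three hn (by rw [Nat.card_eq_fintype_card]; exact h.symm)
    · exact generate_big hn (by rw [Nat.card_eq_fintype_card]; exact h)

end CfsgLib.SpThreeUnipotent
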