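import Cfsg.Agent.Forms.Symplectic
import Cfsg.Agent.MaxSub.SymplecticBasic

/-!
# Transvections and Siegel elements in `Matrix.symplecticGroup`
-/

set_option autoImplicit false

namespace CfsgLib.SpThreeUnipotent

open Matrix CfsgLib.Forms

variable {F : Type*} [Field F] {m : ℕ}

local notation "V" => (Fin m ⊕ Fin m → F)
local notation "G" => Matrix.symplecticGroup (Fin m) F
local notation "ω" => Cfsg.sympForm m F

theorem om_add_left (x y z : V) : ω (x + y) z = ω x z + ω y z := by
  simp only [← sympBilin_apply, map_add, LinearMap.add_apply]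

theorem om_add_right (z x y : V) : ω z (x + y) = ω z x + ω z y := by
  simp only [← sympBilin_apply, map_add]

theorem om_smul_left (c : F) (x z : V) : ω (c • x) z = c * ω x z := by
  simp only [← sympBilin_apply, map_smul, LinearMap.smul_apply, smul_eq_mul]

theorem om_smul_right (c : F) (z x : V) : ω z (c • x) = c * ω z x := by
  simp only [← sympBilin_apply, map_smul, smul_eq_mul]

theorem om_neg_left (x z : V) : ω (-x) z = - ω x z := by
  rw [← neg_one_smul F x, om_smul_left, neg_one_mul]

theorem om_neg_right (z x : V) : ω z (-x) = - ω z x := by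
  rw [← neg_one_smul F x, om_smul_right, neg_one_mul]

theorem om_sub_left (x y z : V) : ω (x - y) z = ω x z - ω y z := by
  rw [sub_eq_add_neg, om_add_left, om_neg_left, ← sub_eq_add_neg]

theorem om_sub_right (z x y : V) : ω z (x - y) = ω z x - ω z y := by
  rw [sub_eq_add_neg, om_add_right, om_neg_right, ← sub_eq_add_neg]

theorem om_zero_left (z : V) : ω 0 z = 0 := by
  rw [← zero_smul F (0 : V), om_smul_left, zero_mul]

theorem om_zero_right (z : V) : ω z 0 = 0 := by
  rw [← zero_smul F (0 : V), om_smul_right, zero_mul]

/-- The action on column vectors. -/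
abbrev act (g : G) (x : V) : V := g.1 *ᵥ x

theorem act_mul (g h : G) (x : V) : act (g * h) x = act g (act h x) := by
  rw [act, Submonoid.coe_mul, ← Matrix.mulVec_mulVec]

theorem act_one (x : V) : act (1 : G) x = x := by simp [act]

theorem act_inv_act (g : G) (x : V) : act g⁻¹ (act g x) = x := by
  rw [← act_mul, inv_mul_cancel, act_one]

theorem act_act_inv (g : G) (x : V) : act g (act g⁻¹ x) = x := by
  rw [← act_mul, mul_inv_cancel, act_one]

theorem act_add (g : G) (x y : V) : act g (x + y) = act g x + act g y := Matrix.mulVec_add _ _ _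

theorem act_smul (g : G) (c : F) (x : V) : act g (c • x) = c • act g x := Matrix.mulVec_smul _ _ _

theorem act_neg (g : G) (x : V) : act g (-x) = - act g x := Matrix.mulVec_neg _ _

theorem act_sub (g : G) (x y : V) : act g (x - y) = act g x - act g y := Matrix.mulVec_sub _ _ _

theorem om_act (g : G) (x y : V) : ω (act g x) (act g y) = ω x y := sympForm_map g x y

theorem act_spTransv (w x : V) (c : F) : act (spTransv w c) x = x + (c * ω x w) • w :=
  sympTransvection_mulVec w x c

theorem spTransv_mul (w : V) (c d : F) : spTransv w c * spTransv w d = spTransv w (c + d) := by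
  refine sp_ext fun x => ?_
  show act _ x = act _ x
  rw [act_mul, act_spTransv, act_spTransv, act_spTransv, om_add_left, om_smul_left, sympForm_self]
  module

theorem spTransv_zero (w : V) : spTransv w (0 : F) = 1 := by
  refine sp_ext fun x => ?_
  show act _ x = act _ x
  rw [act_spTransv, act_one, zero_mul, zero_smul, add_zero]

theorem spTransv_zero_centre (c : F) : spTransv (0 : V) c = 1 := by
  refine sp_ext fun x => ?_
  show act _ x = act _ x
  rw [act_spTransv, act_one, smul_zero, add_zero]

theorem spTransv_inv (w : V) (c : F) : (spTransv w c)⁻¹ = spTransv w (-c) := by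
  refine inv_eq_of_mul_eq_one_right ?_
  rw [spTransv_mul, add_neg_cancel, spTransv_zero]

theorem conj_spTransv (g : G) (w : V) (c : F) :
    g * spTransv w c * g⁻¹ = spTransv (act g w) c := by
  refine sp_ext fun x => ?_
  show act _ x = act _ x
  rw [act_mul, act_mul, act_spTransv, act_spTransv, act_add, act_smul, act_act_inv]
  congr 2
  rw [← om_act g (act g⁻¹ x) w, act_act_inv]

theorem spTransv_smul (a : F) (w : V) (c : F) : spTransv (a • w) c = spTransv w (c * (a * a)) := by
  refine sp_ext fun x => ?_
  show act _ x = act _ x
  rw [act_spTransv, act_spTransv, om_smul_right, smul_smul]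
  congr 2
  ring

/-- The Siegel element `z ↦ z + k (ω z a • b + ω z b • a)` for orthogonal `a, b`. -/
noncomputable def siegel (a b : V) (k : F) : G :=
  spTransv (a + b) k * spTransv a (-k) * spTransv b (-k)

theorem act_siegel {a b : V} (h : ω a b = 0) (k : F) (z : V) :
    act (siegel a b k) z = z + (k * ω z a) • b + (k * ω z b) • a := by
  have h' : ω b a = 0 := by rw [sympForm_swap, h, neg_zero]
  rw [siegel, act_mul, act_mul, act_spTransv, act_spTransv, act_spTransv]
  simp only [om_add_left, om_smul_left, om_add_right, sympForm_self, h, h']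
  module

theorem conj_siegel (g : G) (a b : V) (k : F) :
    g * siegel a b k * g⁻¹ = siegel (act g a) (act g b) k := by
  rw [siegel, siegel, ← act_add, ← conj_spTransv, ← conj_spTransv, ← conj_spTransv]
  group

theorem siegel_inv {a b : V} (h : ω a b = 0) (k : F) : (siegel a b k)⁻¹ = siegel a b (-k) := by
  refine inv_eq_of_mul_eq_one_right (sp_ext fun z => ?_)
  show act _ z = act _ z
  have h' : ω b a = 0 := by rw [sympForm_swap, h, neg_zero]
  rw [act_mul, act_siegel h, act_siegel h, act_one]
  simp only [om_add_left, om_smul_left, sympForm_self, h, h']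
  module

theorem siegel_comm (a b : V) (h : ω a b = 0) (k : F) : siegel a b k = siegel b a k := by
  have h' : ω b a = 0 := by rw [sympForm_swap, h, neg_zero]
  refine sp_ext fun z => ?_
  show act _ z = act _ z
  rw [act_siegel h, act_siegel h']
  abel

theorem siegel_mul_siegel {a b b' : V} (h : ω a b = 0) (h' : ω a b' = 0) (k : F) :
    siegel a b k * siegel a b' k = siegel a (b + b') k * spTransv a (k * k * ω b' b) := by
  refine sp_ext fun z => ?_
  show act _ z = act _ z
  have hb : ω b a = 0 := by rw [sympForm_swap, h, neg_zero]
  have hb' : ω b' a = 0 := by rw [sympForm_swap, h', neg_zero]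
  rw [act_mul, act_mul, act_siegel h, act_siegel h', act_spTransv,
    act_siegel (by rw [om_add_right, h, h', add_zero])]
  simp only [om_add_left, om_add_right, om_smul_left, sympForm_self, h, h', hb, hb']
  module

/-! ### Centres of a subgroup -/

/-- The vectors all of whose transvections lie in `H`. -/
def Centre (H : Subgroup G) (w : V) : Prop := ∀ c : F, spTransv w c ∈ H

variable {H : Subgroup (Matrix.symplecticGroup (Fin m) F)}

theorem Centre.zero (H : Subgroup G) : Centre H (0 : V) := fun c => by
  rw [spTransv_zero_centre]; exact one_mem H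

theorem Centre.smul {w : V} (h : Centre H w) (a : F) : Centre H (a • w) := fun c => by
  rw [spTransv_smul]; exact h _

theorem Centre.map {w : V} (h : Centre H w) {g : G} (hg : g ∈ H) : Centre H (act g w) := fun c => by
  rw [← conj_spTransv]; exact mul_mem (mul_mem hg (h c)) (inv_mem hg)

theorem Centre.add {x y : V} (hx : Centre H x) (hy : Centre H y) (h : ω x y ≠ 0) :
    Centre H (x + y) := by
  have := hx.map (hy (ω x y)⁻¹)
  rwa [act_spTransv, inv_mul_cancel₀ h, one_smul] at this

theorem eq_top_of_centre (h : ∀ w, Centre H w) : H = ⊤ := by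
  rw [eq_top_iff, ← transvGroup_eq_top, transvGroup, Subgroup.closure_le]
  rintro A ⟨w, -, c, rfl⟩
  exact h w c

end CfsgLib.SpThreeUnipotent
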