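import Cfsg.Agent.SpThreeUnipotent.Engine

/-!
# Fields with at least three elements
-/

set_option autoImplicit false

namespace CfsgLib.SpThreeUnipotent

open Matrix CfsgLib.Forms CfsgLib.MaxSub

variable {F : Type*} [Field F] [Finite F] {m : ℕ}

local notation "V" => (Fin m ⊕ Fin m → F)
local notation "G" => Matrix.symplecticGroup (Fin m) F
local notation "ω" => Cfsg.sympForm m F

/-- For a generator `g` of the multiplicative group there are `a, ν` with `1 - a² = g ν⁻²`. -/
theorem exists_params (hq : 4 ≤ Nat.card F) : ∃ (g : F) (a ν : Fˣ),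
    (∀ z : F, z ≠ 0 → ∃ k : ℕ, z = g ^ k) ∧ g ≠ 0 ∧ g ≠ 1 ∧
    ((a : F) * a - 1) * (-(((ν⁻¹ : Fˣ) : F) * ((ν⁻¹ : Fˣ) : F))) = g := by
  have := Fintype.ofFinite F
  obtain ⟨g, hg⟩ := IsCyclic.exists_generator (α := Fˣ)
  have hgen : ∀ z : F, z ≠ 0 → ∃ k : ℕ, z = (g : F) ^ k := fun t ht => by
    obtain ⟨k, hk⟩ := mem_powers_iff_mem_zpowers.2 (hg (Units.mk0 t ht))
    exact ⟨k, by simpa using (congrArg Units.val hk).symm⟩
  have hord : orderOf g = Nat.card F - 1 := by
    rw [orderOf_eq_card_of_forall_mem_zpowers hg, Nat.card_units]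
  have hg1 : (g : F) ≠ 1 := fun h => by
    rw [orderOf_eq_one_iff.2 (Units.val_eq_one.1 h)] at hord; omega
  have hgm : (g : F) ≠ -1 := fun h => by
    have : g ^ 2 = 1 := Units.ext (by rw [Units.val_pow_eq_pow_val, h]; simp)
    have := Nat.le_of_dvd two_pos (orderOf_dvd_of_pow_eq_one this)
    omega
  refine ⟨g, ?_⟩
  by_cases h2 : (2 : F) = 0
  · have hch : ringChar F = 2 := by
      rcases (Nat.dvd_prime Nat.prime_two).1
        (ringChar.dvd (R := F) (x := 2) (by exact_mod_cast h2)) with h | h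
      · exact absurd h (CharP.ringChar_ne_one)
      · exact h
    obtain ⟨a, ha⟩ := FiniteField.isSquare_of_char_two hch (1 + (g : F))
    have ha0 : a ≠ 0 := by
      rintro rfl
      rw [mul_zero] at ha
      exact hgm (eq_neg_of_add_eq_zero_right ha)
    refine ⟨Units.mk0 a ha0, 1, hgen, g.ne_zero, hg1, ?_⟩
    simp only [Units.val_mk0, inv_one, Units.val_one, ← ha]
    linear_combination -(g : F) * h2
  · have hp : (g : F) + 1 ≠ 0 := fun h => hgm (eq_neg_of_add_eq_zero_left h)
    have hm' : (g : F) - 1 ≠ 0 := sub_ne_zero.2 hg1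
    refine ⟨Units.mk0 _ (div_ne_zero hm' hp), Units.mk0 _ (div_ne_zero h2 hp), hgen, g.ne_zero,
      hg1, ?_⟩
    simp only [Units.val_mk0, Units.val_inv_eq_inv_val]
    field_simp
    ring

/-- Fields with at least four elements. -/
theorem generate_big (hm : 2 ≤ m) (hq : 4 ≤ Nat.card F) :
    ∃ g h : G, Subgroup.closure ({uReg m F, g * uReg m F * g⁻¹, h * uReg m F * h⁻¹} : Set G) = ⊤ := by
  obtain ⟨g₀, a, ν, hgen, hg0, hg1, hpar⟩ := exists_params (F := F) hq
  refine ⟨vConj m ν, torus m a, ?_⟩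
  set H := Subgroup.closure ({uReg m F, vConj m ν * uReg m F * (vConj m ν)⁻¹,
    torus m a * uReg m F * (torus m a)⁻¹} : Set G)
  have hu : uReg m F ∈ H := Subgroup.subset_closure (Or.inl rfl)
  have hv : vReg m ν ∈ H := Subgroup.subset_closure (Or.inr (Or.inl rfl))
  have hw : spTransv (ev (m - 1)) ((a : F) * a) * lReg m F ∈ H := by
    rw [← torus_conj_uReg]; exact Subgroup.subset_closure (Or.inr (Or.inr rfl))
  set μ := -(((ν⁻¹ : Fˣ) : F) * ((ν⁻¹ : Fˣ) : F)) with hμ
  set c := (a : F) * a - 1 with hc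
  set x : V := ev (m - 1) with hx
  set f : V := fv (m - 1) with hf
  set y : V := ev (m - 2) with hy
  have h1 : spTransv x c ∈ H := by
    have := mul_mem hw (inv_mem hu)
    rwa [uReg, _root_.mul_inv_rev, ← mul_assoc, mul_inv_cancel_right, spTransv_inv, spTransv_mul,
      ← sub_eq_add_neg] at this
  have hux : act (uReg m F) x = x + y := by
    have := act_uReg_ev (F := F) (m := m) (k := m - 2) (by omega)
    rwa [show m - 2 + 1 = m - 1 by omega] at this
  have huf : act (uReg m F) f = f + x := act_uReg_fv_last (by omega)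
  have h2 : spTransv (x + y) c ∈ H := by
    rw [← hux, ← conj_spTransv]; exact mul_mem (mul_mem hu h1) (inv_mem hu)
  have h3 : spTransv (x + μ • f) c ∈ H := by
    rw [hμ, hx, hf, ← act_vReg_ev_last (by omega : 0 < m), ← conj_spTransv]
    exact mul_mem (mul_mem hv h1) (inv_mem hv)
  have h4 : spTransv ((x + μ • f) + μ • x + y) c ∈ H := by
    have := mul_mem (mul_mem hu h3) (inv_mem hu)
    rw [conj_spTransv, act_add, act_smul, hux, huf] at this
    convert this using 2
    module
  have hfx : ω f x = 1 := by rw [hf, hx, om_fe (by omega), if_pos rfl]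
  have hxy : ω x y = 0 := om_ee _ _
  have hfy : ω f y = 0 := by rw [hf, hy, om_fe (by omega), if_neg (by omega)]
  have hc0 : c ≠ 0 := left_ne_zero_of_mul (hpar.symm ▸ hg0 : c * μ ≠ 0)
  have hyC : Centre H y := centre_of_lines hfx hxy hfy (μ := μ)
    (by rw [hpar]; exact hgen) (by rw [hpar]; exact hg0) (fun h2' h2'' => by
      have : (a : F) * a = 0 := by
        rw [hc, sub_eq_iff_eq_add, one_add_one_eq_two, h2''] at h2'; exact h2'
      exact a.ne_zero (mul_self_eq_zero.1 this)) h1 h2 h3 h4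
  refine eq_top_of_centre_fixed ⟨g₀, hg0, hg1⟩ (by omega) hu hv hyC (ev_ne_zero (by omega))
    fun M hM hyM hmax => ?_
  have hyx : ω y x = 0 := by rw [sympForm_swap, hxy, neg_zero]
  obtain ⟨z, hz, hz'⟩ := hM.nondeg y hyM (ev_ne_zero (by omega))
  have key : ∀ v : V, spTransv v c ∈ H → ω y v = 0 → ω z v ≠ 0 → v ∈ M := by
    intro v hvH hyv hzv
    have := hM.map_mem hmax hvH hyM (ev_ne_zero (by omega))
      (by rwa [act_spTransv, hyv, mul_zero, zero_smul, add_zero]) hz
    rw [act_spTransv] at this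
    have := M.smul_mem (c * ω z v)⁻¹ (M.sub_mem this hz)
    rwa [add_sub_cancel_left, smul_smul, inv_mul_cancel₀ (mul_ne_zero hc0 hzv), one_smul] at this
  have hxM : x ∈ M := by
    by_cases hzx : ω z x = 0
    · have := key (x + y) h2 (by rw [om_add_right, hyx, sympForm_self, add_zero]) (by
        rw [om_add_right, hzx, zero_add, sympForm_swap]; exact neg_ne_zero.2 hz')
      simpa using M.sub_mem this hyM
    · exact key x h1 hyx hzx
  exact ⟨x, hxM, ev_ne_zero (by omega), hux ▸ M.add_mem hxM hyM⟩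

/-- The field with three elements. -/
theorem generate_three (hm : 2 ≤ m) (hq : Nat.card F = 3) :
    ∃ g h : G, Subgroup.closure ({uReg m F, g * uReg m F * g⁻¹, h * uReg m F * h⁻¹} : Set G) = ⊤ := by
  set S : G := siegel (ev 0) (ev 1) 1 with hS
  refine ⟨vConj m (1 : Fˣ), S, ?_⟩
  set H := Subgroup.closure ({uReg m F, vConj m (1 : Fˣ) * uReg m F * (vConj m (1 : Fˣ))⁻¹,
    S * uReg m F * S⁻¹} : Set G)
  have hu : uReg m F ∈ H := Subgroup.subset_closure (Or.inl rfl)
  have hv : vReg m (1 : Fˣ) ∈ H := Subgroup.subset_closure (Or.inr (Or.inl rfl))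
  have hw : S * uReg m F * S⁻¹ ∈ H := Subgroup.subset_closure (Or.inr (Or.inr rfl))
  have := Fintype.ofFinite F
  have h2 : (2 : F) ≠ 0 := fun h => by
    have h3 : ((Nat.card F : ℕ) : F) = 0 := by
      rw [Nat.card_eq_fintype_card]; exact FiniteField.cast_card_eq_zero F
    rw [hq, Nat.cast_ofNat] at h3
    exact one_ne_zero (by linear_combination h3 - h : (1 : F) = 0)
  have ht : spTransv (ev 0 : V) (-2) ∈ H := by
    have hc := mul_mem hw (inv_mem hu)
    have e : S * uReg m F * S⁻¹ * (uReg m F)⁻¹ = spTransv (ev 0 : V) (-2) := by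
      rw [show S * uReg m F * S⁻¹ * (uReg m F)⁻¹ = S * (uReg m F * S⁻¹ * (uReg m F)⁻¹) by group, hS,
        siegel_inv (om_ee 0 1), conj_siegel, act_uReg_ev_zero (by omega),
        act_uReg_ev (k := 0) (by omega)]
      refine sp_ext fun t => ?_
      show act _ t = act _ t
      rw [act_mul, act_siegel (om_ee 0 1), act_siegel (by rw [om_add_right, om_ee, om_ee, add_zero]),
        act_spTransv]
      simp only [zero_add, om_add_left, om_add_right, om_smul_left, sympForm_self, om_ee]
      module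
    rwa [e] at hc
  let A : AddSubgroup F :=
    { carrier := {d | spTransv (ev 0 : V) d ∈ H}
      zero_mem' := by simpa [spTransv_zero] using one_mem H
      add_mem' := fun ha hb => by
        show spTransv _ _ ∈ H
        rw [← spTransv_mul]; exact mul_mem ha hb
      neg_mem' := fun {a} ha => by
        show spTransv _ _ ∈ H
        rw [← spTransv_inv]; exact inv_mem ha }
  have hA : A = ⊤ := by
    haveI : Fact (Nat.card F).Prime := ⟨by rw [hq]; exact Nat.prime_three⟩
    refine (A.eq_bot_or_eq_top_of_prime_card).resolve_left fun h => ?_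
    have : (-2 : F) ∈ A := ht
    rw [h, AddSubgroup.mem_bot, neg_eq_zero] at this
    exact h2 this
  have he : Centre H (ev 0 : V) := fun d => show d ∈ A from hA ▸ AddSubgroup.mem_top d
  refine eq_top_of_centre_fixed ⟨-1, by simp, fun h => h2 (by linear_combination -h)⟩
    (by omega) hu hv he (ev_ne_zero (by omega))
    fun M _ hzM _ => ⟨_, hzM, ev_ne_zero (by omega), ?_⟩
  rwa [act_uReg_ev_zero (by omega)]

end CfsgLib.SpThreeUnipotent
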