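import Cfsg.Agent.SpThreeUnipotent.Gens

/-!
# A subgroup containing full transvection groups and the two regular unipotent elements

For a field with more than two elements the full centres of such a subgroup form a non-degenerate
block structure; a block fixed by `u` is everything.
-/

set_option autoImplicit false

namespace CfsgLib.SpThreeUnipotent

open Matrix CfsgLib.Forms CfsgLib.MaxSub

variable {F : Type*} [Field F] {m : ℕ}

local notation "V" => (Fin m ⊕ Fin m → F)
local notation "G" => Matrix.symplecticGroup (Fin m) F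
local notation "ω" => Cfsg.sympForm m F

variable {H : Subgroup (Matrix.symplecticGroup (Fin m) F)}

/-- A non-degenerate subspace of centres. -/
structure Block (H : Subgroup G) (M : Submodule F V) : Prop where
  centre : ∀ x ∈ M, Centre H x
  nondeg : ∀ x ∈ M, x ≠ 0 → ∃ z ∈ M, ω x z ≠ 0

theorem Block.inf_perp {M : Submodule F V} (hM : Block H M) {x : V} (hx : x ∈ M)
    (hx' : x ∈ sPerp M) : x = 0 := by
  by_contra h
  obtain ⟨z, hz, hz'⟩ := hM.nondeg x hx h
  exact hz' (hx' z hz)

theorem Block.exists_split {M : Submodule F V} (hM : Block H M) (x : V) :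
    ∃ a ∈ M, ∃ p ∈ sPerp M, x = a + p := by
  have hinf : M ⊓ sPerp M = ⊥ := by
    rw [eq_bot_iff]
    intro y hy
    exact (Submodule.mem_bot F).2 (hM.inf_perp hy.1 hy.2)
  have h1 := Submodule.finrank_sup_add_finrank_inf_eq M (sPerp M)
  have h2 := finrank_sPerp M
  rw [hinf, finrank_bot, add_zero] at h1
  have htop : M ⊔ sPerp M = ⊤ := by
    refine Submodule.eq_top_of_finrank_eq (le_antisymm (Submodule.finrank_le _) ?_)
    rw [Module.finrank_pi, Fintype.card_sum, Fintype.card_fin]
    omega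
  obtain ⟨a, ha, p, hp, e⟩ := Submodule.mem_sup.1 (htop ▸ Submodule.mem_top : x ∈ M ⊔ sPerp M)
  exact ⟨a, ha, p, hp, e.symm⟩

/-- Changing the component of a centre in a block. -/
theorem Block.change {M : Submodule F V} (hM : Block H M) {a b a' : V} (ha : a ∈ M)
    (hb : ∀ z ∈ M, ω b z = 0) (ha' : a' ∈ M) (ha0 : a ≠ 0) (ha'0 : a' ≠ 0)
    (h : Centre H (a + b)) : Centre H (a' + b) := by
  obtain ⟨z, hz, h1, h2⟩ := exists_nonorth_two hM.nondeg ha ha' ha0 ha'0
  have step : ∀ p q, p ∈ M → q ∈ M → ω p q ≠ 0 → Centre H (p + b) → Centre H (q + b) := by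
    intro p q hp hq hpq hP
    have := hP.add (hM.centre _ (M.sub_mem hq hp)) (by
      rwa [om_add_left, hb _ (M.sub_mem hq hp), add_zero, om_sub_right, sympForm_self, sub_zero])
    convert this using 1
    abel
  exact step z a' hz ha' h2 (step a z ha hz h1 h)

theorem exists_span_nonorth {C : Set V} (hC : Submodule.span F C = ⊤) {x : V} (hx : x ≠ 0) :
    ∃ d ∈ C, ω x d ≠ 0 := by
  by_contra h
  push Not at h
  refine hx (sympForm_sep x fun v => ?_)
  have hv : v ∈ Submodule.span F C := hC ▸ Submodule.mem_top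
  induction hv using Submodule.span_induction with
  | mem y hy => exact h y hy
  | zero => exact om_zero_right x
  | add y z _ _ h1 h2 => rw [om_add_right, h1, h2, add_zero]
  | smul c y _ h1 => rw [om_smul_right, h1, mul_zero]

/-- A plane spanned by a non-orthogonal pair of centres is a block. -/
theorem block_span_pair {x y : V} (hx : Centre H x) (hy : Centre H y) (h : ω x y ≠ 0) :
    Block H (Submodule.span F {x, y}) := by
  refine ⟨fun v hv => ?_, fun v hv hv0 => ?_⟩
  · obtain ⟨a, b, rfl⟩ := Submodule.mem_span_pair.1 hv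
    rcases eq_or_ne a 0 with rfl | ha
    · rw [zero_smul, zero_add]; exact hy.smul b
    rcases eq_or_ne b 0 with rfl | hb
    · rw [zero_smul, add_zero]; exact hx.smul a
    exact (hx.smul a).add (hy.smul b) (by
      rw [om_smul_left, om_smul_right]; exact mul_ne_zero ha (mul_ne_zero hb h))
  · obtain ⟨a, b, rfl⟩ := Submodule.mem_span_pair.1 hv
    rcases eq_or_ne a 0 with rfl | ha
    · refine ⟨x, Submodule.subset_span (Or.inl rfl), ?_⟩
      rw [zero_smul, zero_add, om_smul_left, sympForm_swap]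
      refine mul_ne_zero (fun hb => hv0 ?_) (neg_ne_zero.2 h)
      rw [hb, zero_smul, zero_smul, add_zero]
    · refine ⟨y, Submodule.subset_span (Or.inr rfl), ?_⟩
      rw [om_add_left, om_smul_left, om_smul_left, sympForm_self, mul_zero, add_zero]
      exact mul_ne_zero ha h

variable (h2 : ∃ κ : F, κ ≠ 0 ∧ κ ≠ 1)
include h2

/-- A block absorbs every centre which is neither in it nor orthogonal to it. -/
theorem Block.exists_lt {M : Submodule F V} (hM : Block H M)
    (hspan : Submodule.span F {w : V | Centre H w} = ⊤) {a p : V} (ha : a ∈ M) (hp : p ∈ sPerp M)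
    (ha0 : a ≠ 0) (hp0 : p ≠ 0) (h : Centre H (a + p)) : ∃ M', M < M' ∧ Block H M' := by
  have hperp : ∀ {x y : V}, x ∈ M → y ∈ sPerp M → ω x y = 0 := fun {x y} hx hy => by
    rw [sympForm_swap, hy x hx, neg_zero]
  obtain ⟨d, hd, hpd⟩ := exists_span_nonorth hspan hp0
  obtain ⟨b, hb, d', hd', rfl⟩ := hM.exists_split d
  rw [om_add_right, hp b hb, zero_add] at hpd
  have hA : ∀ a' ∈ M, a' ≠ 0 → Centre H (a' + p) := fun a' ha' h0 =>
    hM.change ha hp ha' ha0 h0 h
  obtain ⟨D, hD, hpD, hAD⟩ : ∃ D ∈ sPerp M, ω p D ≠ 0 ∧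
      ∀ a' ∈ M, a' ≠ 0 → Centre H (a' + D) := by
    rcases eq_or_ne b 0 with hb0 | hb0
    · rw [Set.mem_ofPred_eq, hb0, zero_add] at hd
      refine ⟨p + d', (sPerp M).add_mem hp hd', by rwa [om_add_right, sympForm_self, zero_add],
        fun a' ha' h0 => ?_⟩
      rw [← add_assoc]
      exact (hA a' ha' h0).add hd (by rwa [om_add_left, hperp ha' hd', zero_add])
    · exact ⟨d', hd', hpd, fun a' ha' h0 => hM.change hb hd' ha' hb0 h0 hd⟩
  have key : ∀ κ : F, κ ≠ 0 → Centre H (p + κ • D) := by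
    intro κ hκ
    have h2' : Centre H (-a + κ • D) := by
      have h' := (hAD ((-κ⁻¹) • a) (M.smul_mem _ ha)
        (smul_ne_zero (neg_ne_zero.2 (inv_ne_zero hκ)) ha0)).smul κ
      rwa [smul_add, smul_smul, mul_neg, mul_inv_cancel₀ hκ, neg_one_smul] at h'
    have h3 := h.add h2' (by
      rw [om_add_left, om_add_right, om_add_right, om_neg_right, sympForm_self, neg_zero, zero_add,
        hperp ha ((sPerp M).smul_mem κ hD), zero_add, hp _ (M.neg_mem ha), zero_add, om_smul_right]
      exact mul_ne_zero hκ hpD)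
    convert h3 using 1
    abel
  obtain ⟨κ, hκ, hκ1⟩ := h2
  have hω : ω (p + D) (p + κ • D) ≠ 0 := by
    rw [om_add_left, om_add_right, om_add_right, om_smul_right, om_smul_right, sympForm_self,
      sympForm_self, sympForm_swap p D, mul_zero, add_zero, zero_add]
    intro h'
    have h'' : (κ - 1) * ω p D = 0 := by linear_combination h'
    exact (mul_ne_zero (sub_ne_zero.2 hκ1) hpD) h''
  have hP := block_span_pair (by simpa using key 1 one_ne_zero : Centre H (p + D)) (key κ hκ) hω
  set P := Submodule.span F {p + D, p + κ • D}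
  have hPM : P ≤ sPerp M := Submodule.span_le.2 (by
    rintro x (rfl | rfl)
    · exact (sPerp M).add_mem hp hD
    · exact (sPerp M).add_mem hp ((sPerp M).smul_mem κ hD))
  have hpP : p ∈ P := by
    refine Submodule.mem_span_pair.2 ⟨κ / (κ - 1), -1 / (κ - 1), ?_⟩
    have h1 : κ - 1 ≠ 0 := sub_ne_zero.2 hκ1
    rw [smul_add, smul_add, smul_smul, add_add_add_comm, ← add_smul, ← add_smul]
    rw [show κ / (κ - 1) + -1 / (κ - 1) = 1 by field_simp; ring,
      show κ / (κ - 1) + -1 / (κ - 1) * κ = 0 by field_simp; ring, one_smul, zero_smul, add_zero]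
  refine ⟨M ⊔ P, lt_of_le_of_ne le_sup_left fun he => hp0 (hM.inf_perp ?_ hp), fun x hx => ?_,
    fun x hx hx0 => ?_⟩
  · rw [he]; exact Submodule.mem_sup_right hpP
  · obtain ⟨a', ha', π, hπ, rfl⟩ := Submodule.mem_sup.1 hx
    rcases eq_or_ne a' 0 with rfl | h0
    · rw [zero_add]; exact hP.centre _ hπ
    rcases eq_or_ne π 0 with rfl | hπ0
    · rw [add_zero]; exact hM.centre _ ha'
    rw [add_comm]
    refine hP.change hpP (fun z hz => ?_) hπ hp0 hπ0 (by rw [add_comm]; exact hA a' ha' h0)
    exact hperp ha' (hPM hz)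
  · obtain ⟨a', ha', π, hπ, rfl⟩ := Submodule.mem_sup.1 hx
    rcases eq_or_ne π 0 with rfl | hπ0
    · obtain ⟨z, hz, hz'⟩ := hM.nondeg a' ha' (by simpa using hx0)
      exact ⟨z, Submodule.mem_sup_left hz, by rwa [add_zero]⟩
    · obtain ⟨z, hz, hz'⟩ := hP.nondeg π hπ hπ0
      refine ⟨z, Submodule.mem_sup_right hz, ?_⟩
      rwa [om_add_left, hperp ha' (hPM hz), zero_add]

/-- A maximal block through a given centre. -/
theorem exists_maximal_block [Finite F] (hspan : Submodule.span F {w : V | Centre H w} = ⊤)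
    {z : V} (hz : Centre H z) (hz0 : z ≠ 0) :
    ∃ M, Block H M ∧ z ∈ M ∧ ∀ c, Centre H c → c ∈ M ∨ c ∈ sPerp M := by
  classical
  obtain ⟨d, hd, hzd⟩ := exists_span_nonorth hspan hz0
  let S : Set (Submodule F V) := {M | Block H M ∧ z ∈ M}
  have hne : S.Nonempty :=
    ⟨_, block_span_pair hz hd hzd, Submodule.subset_span (Or.inl rfl)⟩
  haveI : Finite (Submodule F V) := Finite.of_injective _ SetLike.coe_injective
  obtain ⟨M, hM⟩ := (Set.toFinite S).exists_maximal hne
  refine ⟨M, hM.1.1, hM.1.2, fun c hc => ?_⟩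
  obtain ⟨a, ha, p, hp, rfl⟩ := hM.1.1.exists_split c
  rcases eq_or_ne a 0 with rfl | ha0
  · exact Or.inr (by rwa [zero_add])
  rcases eq_or_ne p 0 with rfl | hp0
  · exact Or.inl (by rwa [add_zero])
  obtain ⟨M', hlt, hM'⟩ := hM.1.1.exists_lt h2 hspan ha hp ha0 hp0 hc
  exact absurd (hM.2 ⟨hM', hlt.le hM.1.2⟩ hlt.le) hlt.not_ge

omit h2

/-- An element of `H` mapping one non-zero vector of a maximal block into it fixes the block. -/
theorem Block.map_mem {M : Submodule F V} (hM : Block H M)
    (hmax : ∀ c, Centre H c → c ∈ M ∨ c ∈ sPerp M) {g : G} (hg : g ∈ H) {z : V} (hz : z ∈ M)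
    (hz0 : z ≠ 0) (hgz : act g z ∈ M) {x : V} (hx : x ∈ M) : act g x ∈ M := by
  have hgz0 : act g z ≠ 0 := fun h => hz0 (by rw [← act_inv_act g z, h]; simp [act])
  have hgzp : act g z ∉ sPerp M := fun h => hgz0 (hM.inf_perp hgz h)
  rcases hmax _ ((hM.centre x hx).map hg) with h | h
  · exact h
  rcases hmax _ ((hM.centre (z + x) (M.add_mem hz hx)).map hg) with h' | h'
  · rw [act_add] at h'; simpa using M.sub_mem h' hgz
  · rw [act_add] at h'
    exact absurd (by simpa using (sPerp M).sub_mem h' h) hgzp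

/-- Subspaces invariant under `u` have invariant orthogonals. -/
theorem sPerp_invariant {W : Submodule F V} {g : G} (hW : ∀ x ∈ W, act g x ∈ W) {x : V}
    (hx : x ∈ sPerp W) : act g x ∈ sPerp W := by
  intro w hw
  let f : W →ₗ[F] W := (Matrix.toLin' g.1).restrict hW
  have hinj : Function.Injective f := by
    intro a b hab
    apply Subtype.ext
    have h' : act g (a : V) = act g (b : V) := congrArg Subtype.val hab
    rw [← act_inv_act g (a : V), h', act_inv_act]
  obtain ⟨y, hy⟩ := (LinearMap.injective_iff_surjective.1 hinj) ⟨w, hw⟩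
  have hy' : act g (y : V) = w := congrArg Subtype.val hy
  rw [← hy', om_act]
  exact hx _ y.2

/-- A `u`-invariant subspace through a vector not orthogonal to `e_0` is everything. -/
theorem eq_top_of_invariant (hm : 0 < m) {W : Submodule F V}
    (hu : ∀ x ∈ W, act (uReg m F) x ∈ W) {y : V} (hy : y ∈ W) (hy' : ω (ev 0) y ≠ 0) : W = ⊤ := by
  have hbot : sPerp W = ⊥ := by
    by_contra h
    exact hy' (ev_zero_mem_of_invariant hm h (fun x hx => sPerp_invariant hu hx) y hy)
  have h1 := finrank_sPerp W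
  rw [hbot, finrank_bot, zero_add] at h1
  refine Submodule.eq_top_of_finrank_eq (le_antisymm (Submodule.finrank_le _) ?_)
  rw [Module.finrank_pi, Fintype.card_sum, Fintype.card_fin]
  omega

/-- The centres span. -/
theorem span_centre_eq_top (hm : 0 < m) (hu : uReg m F ∈ H) {ν : Fˣ} (hv : vReg m ν ∈ H) {z : V}
    (hz : Centre H z) (hz0 : z ≠ 0) : Submodule.span F {w : V | Centre H w} = ⊤ := by
  set S := Submodule.span F {w : V | Centre H w}
  have hinv : ∀ g ∈ H, ∀ x ∈ S, act g x ∈ S := by
    intro g hg x hx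
    induction hx using Submodule.span_induction with
    | mem y hy => exact Submodule.subset_span (Centre.map hy hg)
    | zero => simp [act]
    | add y y' _ _ h h' => rw [act_add]; exact S.add_mem h h'
    | smul c y _ h => rw [act_smul]; exact S.smul_mem c h
  have hS : S ≠ ⊥ := fun h => hz0 (by
    have : z ∈ S := Submodule.subset_span hz
    rwa [h, Submodule.mem_bot] at this)
  let W : Submodule F V := S.comap (Matrix.toLin' (vConj m ν).1)
  have hW : W ≠ ⊥ := by
    intro h
    have : act (vConj m ν)⁻¹ z ∈ W := by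
      show act (vConj m ν) (act (vConj m ν)⁻¹ z) ∈ S
      rw [act_act_inv]; exact Submodule.subset_span hz
    rw [h, Submodule.mem_bot] at this
    exact hz0 (by rw [← act_act_inv (vConj m ν) z, this]; simp [act])
  have hWu : ∀ x ∈ W, act (uReg m F) x ∈ W := by
    intro x hx
    show act (vConj m ν) (act (uReg m F) x) ∈ S
    rw [← act_vReg_conj]
    exact hinv _ hv _ hx
  have hf : act (vConj m ν) (ev 0) ∈ S := ev_zero_mem_of_invariant hm hW hWu
  rw [act_vConj_ev] at hf
  refine eq_top_of_invariant hm (hinv _ hu) hf ?_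
  rw [om_smul_right, om_ef hm, if_pos rfl]
  simp

include h2

/-- The criterion. -/
theorem eq_top_of_centre_fixed [Finite F] (hm : 0 < m) (hu : uReg m F ∈ H) {ν : Fˣ}
    (hv : vReg m ν ∈ H) {z : V} (hz : Centre H z) (hz0 : z ≠ 0)
    (hfix : ∀ M, Block H M → z ∈ M → (∀ c, Centre H c → c ∈ M ∨ c ∈ sPerp M) →
      ∃ y ∈ M, y ≠ 0 ∧ act (uReg m F) y ∈ M) :
    H = ⊤ := by
  obtain ⟨M, hM, hzM, hmax⟩ :=
    exists_maximal_block h2 (span_centre_eq_top hm hu hv hz hz0) hz hz0
  obtain ⟨y, hy, hy0, hyu⟩ := hfix M hM hzM hmax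
  have hinv : ∀ x ∈ M, act (uReg m F) x ∈ M := fun x hx => hM.map_mem hmax hu hy hy0 hyu hx
  have he := ev_zero_mem_of_invariant hm (fun h => hz0 (by rwa [h, Submodule.mem_bot] at hzM)) hinv
  obtain ⟨w, hw, hw'⟩ := hM.nondeg _ he (ev_ne_zero hm)
  have htop := eq_top_of_invariant hm hinv hw hw'
  exact eq_top_of_centre fun x => hM.centre x (htop ▸ Submodule.mem_top)

end CfsgLib.SpThreeUnipotent
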