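import Cfsg.Agent.SpThreeUnipotent.Criterion

/-!
# A full transvection group from four transvections with the same parameter

If the parameter times the slope of the second line generates the multiplicative group, the lines
`x + F y`, `w + F y`, `z + F y` consist of centres with that parameter and the full root group of
`y` follows.
-/

set_option autoImplicit false

namespace CfsgLib.SpThreeUnipotent

open Matrix CfsgLib.Forms

variable {F : Type*} [Field F] {m : ℕ}

local notation "V" => (Fin m ⊕ Fin m → F)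
local notation "G" => Matrix.symplecticGroup (Fin m) F
local notation "ω" => Cfsg.sympForm m F

theorem exists_two_squares [Finite F] (x : F) : ∃ a b : F, a ^ 2 + b ^ 2 = x := by
  have := Fintype.ofFinite F
  classical
  by_cases h2 : ringChar F = 2
  · obtain ⟨a, ha⟩ := FiniteField.isSquare_of_char_two h2 x
    exact ⟨a, 0, by rw [ha]; ring⟩
  obtain ⟨a, b, h⟩ := FiniteField.exists_root_sum_quadratic (R := F)
    (f := Polynomial.X ^ 2) (g := Polynomial.X ^ 2 - Polynomial.C x)
    (Polynomial.degree_X_pow 2) (Polynomial.degree_X_pow_sub_C two_pos x)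
    (FiniteField.odd_card_of_char_ne_two h2)
  exact ⟨a, b, by simpa [add_sub, sub_eq_zero] using h⟩

/-- A set containing `0` and `1` and closed under `(s, r) ↦ s - g² r`, for a multiplicative
generator `g`, is everything. -/
theorem mem_of_closed [Finite F] {A : Set F} (h0 : (0 : F) ∈ A) (h1 : (1 : F) ∈ A) {g : F}
    (hg : ∀ x : F, x ≠ 0 → ∃ k : ℕ, x = g ^ k) (hg0 : g ≠ 0)
    (hA : ∀ s ∈ A, ∀ r ∈ A, s - g ^ 2 * r ∈ A) (x : F) : x ∈ A := by
  have hm : g ^ 2 ≠ 0 := pow_ne_zero 2 hg0
  let φ : A → A := fun r => ⟨0 - g ^ 2 * r.1, hA 0 h0 r.1 r.2⟩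
  have hsurj : Function.Surjective φ := Finite.surjective_of_injective fun r r' h => by
    have := congrArg Subtype.val h
    simp only [φ, zero_sub, neg_inj] at this
    exact Subtype.ext (mul_left_cancel₀ hm this)
  have hadd : ∀ s ∈ A, ∀ t ∈ A, s + t ∈ A := fun s hs t ht => by
    obtain ⟨r, hr⟩ := hsurj ⟨t, ht⟩
    have e : 0 - g ^ 2 * r.1 = t := congrArg Subtype.val hr
    rw [← e, zero_sub, ← sub_eq_add_neg]
    exact hA s hs _ r.2
  have hnat : ∀ (k : ℕ), ∀ t ∈ A, (k : F) * t ∈ A := by
    intro k
    induction k with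
    | zero => intro t _; simpa using h0
    | succ k ih => intro t ht; rw [Nat.cast_succ, add_mul, one_mul]; exact hadd _ (ih t ht) t ht
  have hmul : ∀ t ∈ A, g ^ 2 * t ∈ A := by
    intro t ht
    have hp : 0 < ringChar F :=
      Nat.pos_of_ne_zero (CharP.char_ne_zero_of_finite F (ringChar F))
    have e : ((ringChar F - 1 : ℕ) : F) = -1 := by
      rw [Nat.cast_sub hp, ringChar.Nat.cast_ringChar, Nat.cast_one, zero_sub]
    have := hnat (ringChar F - 1) _ (hA 0 h0 t ht)
    rw [e] at this
    convert this using 1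
    ring
  have hpow : ∀ k : ℕ, (g ^ k) ^ 2 ∈ A := by
    intro k
    induction k with
    | zero => simpa using h1
    | succ k ih => convert hmul _ ih using 1; ring
  have hsq : ∀ a : F, a ^ 2 ∈ A := fun a => by
    rcases eq_or_ne a 0 with rfl | ha
    · rwa [zero_pow two_ne_zero]
    · obtain ⟨k, rfl⟩ := hg a ha; exact hpow k
  obtain ⟨a, b, rfl⟩ := exists_two_squares x
  exact hadd _ (hsq a) _ (hsq b)

/-- The difference transvection of a line. -/
noncomputable def lineElt (q y : V) (c r : F) : G :=
  spTransv (q + r • y) c * spTransv q (-c)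

variable [Finite F] {H : Subgroup (Matrix.symplecticGroup (Fin m) F)}

theorem lineElt_mem {q y : V} {c r : F} (h : spTransv (q + r • y) c ∈ H) (h' : spTransv q c ∈ H) :
    lineElt q y c r ∈ H := by
  refine mul_mem h ?_
  rw [← spTransv_inv]
  exact inv_mem h'

/-- The main engine. -/
theorem centre_of_lines {x f y : V} {c μ : F} (hfx : ω f x = 1) (hxy : ω x y = 0)
    (hfy : ω f y = 0) (hg : ∀ z : F, z ≠ 0 → ∃ k : ℕ, z = (c * μ) ^ k) (hg0 : c * μ ≠ 0)
    (hc : c = 1 → (2 : F) ≠ 0) (h1 : spTransv x c ∈ H) (h2 : spTransv (x + y) c ∈ H)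
    (h3 : spTransv (x + μ • f) c ∈ H) (h4 : spTransv ((x + μ • f) + μ • x + y) c ∈ H) :
    Centre H y := by
  set w := x + μ • f with hw
  have hyx : ω y x = 0 := by rw [sympForm_swap, hxy, neg_zero]
  have hyf : ω y f = 0 := by rw [sympForm_swap, hfy, neg_zero]
  have hxf : ω x f = -1 := by rw [sympForm_swap, hfx]
  -- one line moves the other
  have move : ∀ (q p : V) (r b : F), ω q y = 0 → ω p y = 0 → spTransv (q + r • y) c ∈ H →
      spTransv q c ∈ H → spTransv (p + b • y) c ∈ H →
      spTransv (p + (b + c * ω p q * r) • y) c ∈ H := by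
    intro q p r b hqy hpy hr hq hp
    have hg' := lineElt_mem hr hq
    have := mul_mem (mul_mem hg' hp) (inv_mem hg')
    rw [conj_spTransv] at this
    convert this using 2
    have hyq : ω y q = 0 := by rw [sympForm_swap, hqy, neg_zero]
    simp only [lineElt, act_mul, act_spTransv, om_add_left, om_add_right, om_smul_left,
      om_smul_right, sympForm_self, hqy, hyq, hpy]
    module
  have hwy : ω w y = 0 := by rw [hw, om_add_left, om_smul_left, hxy, hfy, mul_zero, add_zero]
  have hwx : ω w x = μ := by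
    rw [hw, om_add_left, om_smul_left, sympForm_self, hfx, mul_one, zero_add]
  have hxw : ω x w = -μ := by rw [sympForm_swap, hwx]
  have hw0 : spTransv (w + (0 : F) • y) c ∈ H := by rwa [zero_smul, add_zero]
  have hA : ∀ s : F, spTransv (x + s • y) c ∈ H := by
    refine fun s => mem_of_closed (A := {s | spTransv (x + s • y) c ∈ H})
      (by simpa using h1) (by simpa using h2) hg hg0 ?_ s
    intro s hs r hr
    have hb := move x w r 0 hxy hwy hr h1 hw0
    rw [hwx, zero_add] at hb
    have := move w x _ s hwy hxy hb h3 hs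
    rw [hxw] at this
    show spTransv (x + (s - (c * μ) ^ 2 * r) • y) c ∈ H
    convert this using 3
    ring_nf
  have hB : ∀ s : F, spTransv (w + s • y) c ∈ H := by
    intro s
    have := move x w (s / (c * μ)) 0 hxy hwy (hA _) h1 hw0
    rw [hwx, zero_add, mul_div_cancel₀ _ hg0] at this
    exact this
  set z := w + μ • x with hz
  have hzy : ω z y = 0 := by rw [hz, om_add_left, om_smul_left, hwy, hxy, mul_zero, add_zero]
  have hzx : ω z x = μ := by
    rw [hz, om_add_left, om_smul_left, hwx, sympForm_self, mul_zero, add_zero]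
  have hC : ∀ s : F, spTransv (z + s • y) c ∈ H := by
    intro s
    have := move x z ((s - 1) / (c * μ)) 1 hxy hzy (hA _) h1 (by rwa [one_smul])
    rw [hzx, mul_div_cancel₀ _ hg0, add_sub_cancel] at this
    exact this
  have hC0 : spTransv z c ∈ H := by simpa using hC 0
  have e1 : ∀ r : F, lineElt w y c r * lineElt x y c (μ * r) =
      lineElt z y c r * spTransv y (c * μ ^ 2 * (1 - c) * r ^ 2) := by
    intro r
    refine sp_ext fun t => ?_
    show act _ t = act _ t
    simp only [hz, hw, lineElt, act_mul, act_spTransv, om_add_left, om_add_right, om_smul_left,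
      om_smul_right, sympForm_self, hfx, hxf, hxy, hyx, hfy, hyf]
    module
  have e2 : ∀ r : F, lineElt x y c (μ * r) * lineElt w y c r =
      lineElt z y c r * spTransv y (c * μ ^ 2 * (1 + c) * r ^ 2) := by
    intro r
    refine sp_ext fun t => ?_
    show act _ t = act _ t
    simp only [hz, hw, lineElt, act_mul, act_spTransv, om_add_left, om_add_right, om_smul_left,
      om_smul_right, sympForm_self, hfx, hxf, hxy, hyx, hfy, hyf]
    module
  obtain ⟨K, hK, hKH⟩ : ∃ K : F, K ≠ 0 ∧ ∀ r : F, spTransv y (K * r ^ 2) ∈ H := by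
    have hmem : ∀ (r : F) (T : G), lineElt z y c r * T ∈ H → T ∈ H := fun r T h =>
      (Subgroup.mul_mem_cancel_left H (lineElt_mem (hC r) hC0)).1 h
    have hμ : μ ≠ 0 := right_ne_zero_of_mul hg0
    have hc0 : c ≠ 0 := left_ne_zero_of_mul hg0
    by_cases hc1 : c = 1
    · refine ⟨c * μ ^ 2 * (1 + c), mul_ne_zero (mul_ne_zero hc0 (pow_ne_zero 2 hμ)) ?_,
        fun r => hmem r _ ?_⟩
      · rw [hc1, one_add_one_eq_two]; exact hc hc1
      · rw [← e2]
        exact mul_mem (lineElt_mem (hA _) h1) (lineElt_mem (hB _) h3)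
    · refine ⟨c * μ ^ 2 * (1 - c), mul_ne_zero (mul_ne_zero hc0 (pow_ne_zero 2 hμ))
        (sub_ne_zero.2 (Ne.symm hc1)), fun r => hmem r _ ?_⟩
      rw [← e1]
      exact mul_mem (lineElt_mem (hB _) h3) (lineElt_mem (hA _) h1)
  intro d
  obtain ⟨a, b, hab⟩ := exists_two_squares (d / K)
  have := mul_mem (hKH a) (hKH b)
  rwa [spTransv_mul, ← mul_add, hab, mul_div_cancel₀ _ hK] at this

end CfsgLib.SpThreeUnipotent
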