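import Cfsg.Agent.SpThreeUnipotent.Basic

/-!
# The regular unipotent element of the symplectic group and two of its conjugates

`uReg` is the product of the long simple root element at the last index and the bidiagonal element of
the Levi subgroup. `vReg ν` is its conjugate by the Weyl element and a torus element.
-/

set_option autoImplicit false

namespace CfsgLib.SpThreeUnipotent

open Matrix CfsgLib.Forms

variable {F : Type*} [Field F] {m : ℕ}

local notation "V" => (Fin m ⊕ Fin m → F)
local notation "G" => Matrix.symplecticGroup (Fin m) F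
local notation "ω" => Cfsg.sympForm m F

/-- The basis vector `e_k` (zero out of range). -/
def ev (k : ℕ) : Fin m ⊕ Fin m → F :=
  if h : k < m then Pi.single (Sum.inl ⟨k, h⟩) 1 else 0

/-- The basis vector `f_k` (zero out of range). -/
def fv (k : ℕ) : Fin m ⊕ Fin m → F :=
  if h : k < m then Pi.single (Sum.inr ⟨k, h⟩) 1 else 0

theorem ev_of_le {k : ℕ} (h : m ≤ k) : (ev k : V) = 0 := dif_neg (by omega)

theorem fv_of_le {k : ℕ} (h : m ≤ k) : (fv k : V) = 0 := dif_neg (by omega)

theorem ev_val (i : Fin m) : (ev (i : ℕ) : V) = Pi.single (Sum.inl i) 1 := dif_pos i.2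

theorem fv_val (i : Fin m) : (fv (i : ℕ) : V) = Pi.single (Sum.inr i) 1 := dif_pos i.2

theorem om_ev_right {k : ℕ} (h : k < m) (x : V) : ω x (ev k) = x (Sum.inr ⟨k, h⟩) := by
  rw [ev, dif_pos h, sympForm_single_inl]

theorem om_fv_right {k : ℕ} (h : k < m) (x : V) : ω x (fv k) = - x (Sum.inl ⟨k, h⟩) := by
  rw [fv, dif_pos h, sympForm_single_inr]

theorem om_ee (i j : ℕ) : ω (ev i : V) (ev j) = 0 := by
  by_cases hj : j < m
  · rw [om_ev_right hj]; unfold ev; split_ifs <;> simp
  · rw [ev_of_le (by omega : m ≤ j), om_zero_right]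

theorem om_ff (i j : ℕ) : ω (fv i : V) (fv j) = 0 := by
  by_cases hj : j < m
  · rw [om_fv_right hj]; unfold fv; split_ifs <;> simp
  · rw [fv_of_le (by omega : m ≤ j), om_zero_right]

theorem om_fe {i j : ℕ} (hj : j < m) : ω (fv i : V) (ev j) = if i = j then 1 else 0 := by
  rw [om_ev_right hj]
  unfold fv
  split_ifs <;> simp_all [Pi.single_apply, Fin.ext_iff]

theorem om_ef {i j : ℕ} (hj : j < m) : ω (ev j : V) (fv i) = if i = j then -1 else 0 := by
  rw [sympForm_swap, om_fe hj]
  split_ifs <;> simp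

theorem vec_eq_sum (x : V) :
    x = (∑ i : Fin m, x (Sum.inl i) • ev (i : ℕ)) + ∑ i : Fin m, x (Sum.inr i) • fv (i : ℕ) := by
  funext j
  simp only [ev_val, fv_val, Pi.add_apply, Finset.sum_apply, Pi.smul_apply, Pi.single_apply,
    smul_eq_mul]
  rcases j with i | i <;> simp

/-! ### The Levi element -/

/-- The upper bidiagonal matrix with all entries one. -/
def bidiag (m : ℕ) (F : Type*) [Field F] : Matrix (Fin m) (Fin m) F :=
  Matrix.of fun i j => if j = i then 1 else if (j : ℕ) = i + 1 then 1 else 0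

theorem det_bidiag : (bidiag m F).det = 1 := by
  rw [Matrix.det_of_upperTriangular]
  · simp [bidiag]
  · intro i j hij
    have hij' : (j : ℕ) < i := hij
    have h1 : j ≠ i := fun h => by rw [h] at hij'; exact lt_irrefl _ hij'
    simp [bidiag, h1, show ¬ ((j : ℕ) = i + 1) by omega]

theorem isUnit_det_bidiag_transpose : IsUnit ((bidiag m F)ᵀ).det := by
  rw [Matrix.det_transpose, det_bidiag]; exact isUnit_one

theorem isUnit_det_bidiag : IsUnit (bidiag m F).det := by
  rw [det_bidiag]; exact isUnit_one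

/-- A block diagonal symplectic element. -/
def levi (P Q : Matrix (Fin m) (Fin m) F) (h : Pᵀ * Q = 1) : G :=
  ⟨Matrix.fromBlocks P 0 0 Q, by
    rw [SymplecticGroup.mem_iff']
    have h' : Qᵀ * P = 1 := by rw [← Matrix.transpose_inj]; simpa using h
    simp [Matrix.J, Matrix.fromBlocks_transpose, Matrix.fromBlocks_multiply, h, h']⟩

/-- The Levi part of the regular unipotent element. -/
noncomputable def lReg (m : ℕ) (F : Type*) [Field F] : Matrix.symplecticGroup (Fin m) F :=
  levi (bidiag m F) ((bidiag m F)ᵀ)⁻¹ (Matrix.mul_nonsing_inv _ isUnit_det_bidiag_transpose)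

theorem act_lReg_ev {k : ℕ} (hk : k + 1 < m) :
    act (lReg m F) (ev (k + 1)) = (ev (k + 1) + ev k : V) := by
  simp only [act, lReg, levi, ev, dif_pos hk, dif_pos (show k < m by omega)]
  funext j
  rw [Matrix.mulVec_single_one]
  rcases j with i | i
  · simp only [Matrix.col_apply, Matrix.fromBlocks_apply₁₁, bidiag, Matrix.of_apply, Pi.add_apply,
      Pi.single_apply, Sum.inl.injEq, Fin.ext_iff]
    split_ifs <;> first | omega | contradiction | simp
  · simp [Matrix.col_apply]

theorem act_lReg_ev_zero (hm : 0 < m) : act (lReg m F) (ev 0) = (ev 0 : V) := by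
  simp only [act, lReg, levi, ev, dif_pos hm]
  funext j
  rw [Matrix.mulVec_single_one]
  rcases j with i | i
  · simp only [Matrix.col_apply, Matrix.fromBlocks_apply₁₁, bidiag, Matrix.of_apply,
      Pi.single_apply, Sum.inl.injEq, Fin.ext_iff]
    split_ifs <;> first | omega | contradiction | simp
  · simp [Matrix.col_apply]

theorem act_lReg_elim_inr (x : Fin m → F) :
    act (lReg m F) (Sum.elim (0 : Fin m → F) ((bidiag m F)ᵀ *ᵥ x)) = Sum.elim (0 : Fin m → F) x := by
  rw [act, lReg, levi, Matrix.fromBlocks_mulVec]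
  simp [Matrix.mulVec_mulVec, Matrix.nonsing_inv_mul _ (isUnit_det_bidiag_transpose (m := m) (F := F))]

theorem fv_eq_elim {k : ℕ} (hk : k < m) : (fv k : V) = Sum.elim (0 : Fin m → F) (Pi.single ⟨k, hk⟩ 1) := by
  rw [fv, dif_pos hk]
  funext j
  rcases j with i | i <;> simp [Pi.single_apply]

theorem act_lReg_fv_last (hm : 0 < m) : act (lReg m F) (fv (m - 1)) = (fv (m - 1) : V) := by
  have h := act_lReg_elim_inr (F := F) (m := m) (Pi.single ⟨m - 1, by omega⟩ 1)
  rw [fv_eq_elim (by omega : m - 1 < m)]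
  refine Eq.trans (congrArg (act (lReg m F)) (congrArg (Sum.elim (0 : Fin m → F)) ?_)) h
  funext i
  rw [Matrix.mulVec_single_one]
  simp only [Matrix.col_apply, Matrix.transpose_apply, bidiag, Matrix.of_apply, Pi.single_apply,
    Fin.ext_iff]
  split_ifs <;> first | omega | contradiction | simp

theorem act_lReg_fv {k : ℕ} (hk : k + 1 < m) :
    act (lReg m F) (fv k + fv (k + 1)) = (fv k : V) := by
  have h := act_lReg_elim_inr (F := F) (m := m) (Pi.single ⟨k, by omega⟩ 1)
  rw [fv_eq_elim (by omega : k < m), fv_eq_elim hk]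
  refine Eq.trans (congrArg (act (lReg m F)) ?_) h
  funext j
  rcases j with i | i
  · simp
  · simp only [Pi.add_apply, Sum.elim_inr]
    rw [Matrix.mulVec_single_one]
    simp only [Matrix.col_apply, Matrix.transpose_apply, bidiag, Matrix.of_apply, Pi.single_apply,
      Fin.ext_iff]
    split_ifs <;> first | omega | contradiction | simp

/-! ### The regular unipotent element -/

/-- The regular unipotent element. -/
noncomputable def uReg (m : ℕ) (F : Type*) [Field F] : Matrix.symplecticGroup (Fin m) F :=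
  spTransv (ev (m - 1)) 1 * lReg m F

theorem act_uReg_ev_zero (hm : 0 < m) : act (uReg m F) (ev 0) = (ev 0 : V) := by
  rw [uReg, act_mul, act_lReg_ev_zero hm, act_spTransv, om_ee, mul_zero, zero_smul, add_zero]

theorem act_uReg_ev {k : ℕ} (hk : k + 1 < m) :
    act (uReg m F) (ev (k + 1)) = (ev (k + 1) + ev k : V) := by
  rw [uReg, act_mul, act_lReg_ev hk, act_spTransv, om_add_left, om_ee, om_ee, add_zero, mul_zero,
    zero_smul, add_zero]

theorem act_uReg_fv_last (hm : 0 < m) :
    act (uReg m F) (fv (m - 1)) = (fv (m - 1) + ev (m - 1) : V) := by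
  rw [uReg, act_mul, act_lReg_fv_last hm, act_spTransv, om_fe (by omega), if_pos rfl, mul_one,
    one_smul]

theorem act_uReg_fv {k : ℕ} (hk : k + 1 < m) :
    act (uReg m F) (fv k + fv (k + 1)) = (fv k : V) := by
  rw [uReg, act_mul, act_lReg_fv hk, act_spTransv, om_fe (by omega), if_neg (by omega), mul_zero,
    zero_smul, add_zero]

/-! ### Torus and Weyl conjugates -/

/-- The torus element scaling all `e_k` by `a` and all `f_k` by `a⁻¹`. -/
noncomputable def torus (m : ℕ) {F : Type*} [Field F] (a : Fˣ) :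
    Matrix.symplecticGroup (Fin m) F :=
  levi ((a : F) • 1) (((a⁻¹ : Fˣ) : F) • 1) (by
    rw [Matrix.transpose_smul, Matrix.transpose_one, Matrix.smul_mul, Matrix.one_mul, smul_smul,
      Units.mul_inv, one_smul])

theorem act_torus_ev (a : Fˣ) (k : ℕ) : act (torus m a) (ev k) = ((a : F) • ev k : V) := by
  unfold ev
  split_ifs with hk
  · funext j
    simp only [act, torus, levi]
    rw [Matrix.mulVec_single_one]
    rcases j with i | i <;> simp [Matrix.col_apply, Pi.single_apply, Matrix.one_apply]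
  · simp [act]

theorem act_torus_fv (a : Fˣ) (k : ℕ) :
    act (torus m a) (fv k) = (((a⁻¹ : Fˣ) : F) • fv k : V) := by
  unfold fv
  split_ifs with hk
  · funext j
    simp only [act, torus, levi]
    rw [Matrix.mulVec_single_one]
    rcases j with i | i <;> simp [Matrix.col_apply, Pi.single_apply, Matrix.one_apply]
  · simp [act]

theorem torus_comm_lReg (a : Fˣ) : torus m a * lReg m F = lReg m F * torus m a := by
  apply Subtype.ext
  simp [torus, lReg, levi, Matrix.fromBlocks_multiply]

theorem torus_conj_uReg (a : Fˣ) :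
    torus m a * uReg m F * (torus m a)⁻¹ = spTransv (ev (m - 1)) ((a : F) * a) * lReg m F := by
  have h : torus m a * spTransv (ev (m - 1)) 1 =
      spTransv (ev (m - 1)) ((a : F) * a) * torus m a := by
    have h1 := conj_spTransv (torus m a) (ev (m - 1) : V) 1
    rw [act_torus_ev, spTransv_smul, one_mul] at h1
    rw [← h1, inv_mul_cancel_right]
  rw [uReg, ← mul_assoc, h, mul_assoc _ (torus m a), torus_comm_lReg, ← mul_assoc,
    mul_inv_cancel_right]

/-- The Weyl element exchanging `e` and `f` up to sign. -/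
def weyl (m : ℕ) (F : Type*) [Field F] : Matrix.symplecticGroup (Fin m) F :=
  SymplecticGroup.symJ (Fin m) F

theorem act_weyl_ev (k : ℕ) : act (weyl m F) (ev k) = (fv k : V) := by
  unfold ev fv
  split_ifs with hk
  · funext j
    simp only [act, weyl, SymplecticGroup.coe_J]
    rw [Matrix.mulVec_single_one]
    rcases j with i | i <;> simp [Matrix.col_apply, Matrix.J, Pi.single_apply, Matrix.one_apply]
  · simp [act]

theorem act_weyl_fv (k : ℕ) : act (weyl m F) (fv k) = (- ev k : V) := by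
  unfold ev fv
  split_ifs with hk
  · funext j
    simp only [act, weyl, SymplecticGroup.coe_J]
    rw [Matrix.mulVec_single_one]
    rcases j with i | i
    · simp [Matrix.col_apply, Matrix.J, Pi.single_apply, Matrix.one_apply, apply_ite Neg.neg]
    · simp [Matrix.col_apply, Matrix.J, Pi.single_apply]
  · simp [act]

/-- The conjugating element of `vReg`. -/
noncomputable def vConj (m : ℕ) {F : Type*} [Field F] (ν : Fˣ) :
    Matrix.symplecticGroup (Fin m) F := torus m ν * weyl m F

/-- The opposite regular unipotent element. -/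
noncomputable def vReg (m : ℕ) {F : Type*} [Field F] (ν : Fˣ) :
    Matrix.symplecticGroup (Fin m) F := vConj m ν * uReg m F * (vConj m ν)⁻¹

theorem act_vConj_fv (ν : Fˣ) (k : ℕ) :
    act (vConj m ν) (fv k) = (-((ν : F) • ev k) : V) := by
  rw [vConj, act_mul, act_weyl_fv, act_neg, act_torus_ev]

theorem act_vConj_ev (ν : Fˣ) (k : ℕ) :
    act (vConj m ν) (ev k) = (((ν⁻¹ : Fˣ) : F) • fv k : V) := by
  rw [vConj, act_mul, act_weyl_ev, act_torus_fv]

theorem act_vReg_conj (ν : Fˣ) (x : V) :
    act (vReg m ν) (act (vConj m ν) x) = act (vConj m ν) (act (uReg m F) x) := by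
  rw [vReg, act_mul, act_inv_act, act_mul]

theorem act_vReg_ev_last (hm : 0 < m) (ν : Fˣ) :
    act (vReg m ν) (ev (m - 1)) =
      (ev (m - 1) + (-(((ν⁻¹ : Fˣ) : F) * ((ν⁻¹ : Fˣ) : F))) • fv (m - 1) : V) := by
  have h := act_vReg_conj ν (fv (m - 1) : V)
  rw [act_uReg_fv_last hm, act_vConj_fv, act_neg, act_smul, act_add, act_vConj_fv, act_vConj_ev,
    neg_eq_iff_eq_neg, ← eq_inv_smul_iff₀ ν.ne_zero] at h
  rw [h, smul_neg, smul_add, smul_neg, smul_smul, smul_smul, inv_mul_cancel₀ ν.ne_zero, one_smul,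
    Units.val_inv_eq_inv_val, neg_add, neg_neg, neg_smul]

/-! ### Regularity -/

/-- The flag basis `e_0, …, e_{m-1}, f_{m-1}, …, f_0`. -/
def gv (m : ℕ) (F : Type*) [Field F] (k : ℕ) : Fin m ⊕ Fin m → F :=
  if k < m then ev k else fv (2 * m - 1 - k)

/-- `u - 1`. -/
noncomputable def nReg (m : ℕ) (F : Type*) [Field F] : Matrix (Fin m ⊕ Fin m) (Fin m ⊕ Fin m) F :=
  (uReg m F).1 - 1

theorem nReg_mulVec (x : V) : nReg m F *ᵥ x = act (uReg m F) x - x := by
  rw [nReg, Matrix.sub_mulVec, Matrix.one_mulVec]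

theorem nReg_gv_zero (hm : 0 < m) : nReg m F *ᵥ gv m F 0 = 0 := by
  rw [gv, if_pos hm, nReg_mulVec, act_uReg_ev_zero hm, sub_self]

theorem nReg_gv_succ {k : ℕ} (hk : k + 1 < 2 * m) : ∃ c d : F, c ≠ 0 ∧
    nReg m F *ᵥ gv m F (k + 1) = c • gv m F k + d • (nReg m F *ᵥ gv m F k) := by
  rcases Nat.lt_trichotomy (k + 1) m with h | h | h
  · refine ⟨1, 0, one_ne_zero, ?_⟩
    rw [gv, if_pos h, gv, if_pos (by omega), nReg_mulVec, act_uReg_ev h]
    module
  · refine ⟨1, 0, one_ne_zero, ?_⟩
    rw [gv, if_neg (by omega), gv, if_pos (by omega), show 2 * m - 1 - (k + 1) = m - 1 by omega,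
      nReg_mulVec, act_uReg_fv_last (by omega), show k = m - 1 by omega]
    module
  · refine ⟨-1, -1, by simp, ?_⟩
    set j := 2 * m - 1 - (k + 1)
    rw [gv, if_neg (by omega), gv, if_neg (by omega), show 2 * m - 1 - k = j + 1 by omega,
      nReg_mulVec, nReg_mulVec]
    have h' := act_uReg_fv (F := F) (m := m) (k := j) (by omega)
    rw [act_add, ← eq_sub_iff_add_eq] at h'
    rw [h']
    module

theorem nReg_pow_gv (j : ℕ) : ∀ i, i < j → i < 2 * m → (nReg m F) ^ j *ᵥ gv m F i = 0 := by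
  intro i
  induction i generalizing j with
  | zero =>
    intro hj hm
    obtain ⟨j, rfl⟩ : ∃ k, j = k + 1 := ⟨j - 1, by omega⟩
    rw [pow_succ, ← Matrix.mulVec_mulVec, nReg_gv_zero (by omega), Matrix.mulVec_zero]
  | succ i ih =>
    intro hj hm
    obtain ⟨j, rfl⟩ : ∃ k, j = k + 1 := ⟨j - 1, by omega⟩
    obtain ⟨c, d, -, h⟩ := nReg_gv_succ (F := F) hm
    rw [pow_succ, ← Matrix.mulVec_mulVec, h, Matrix.mulVec_add, Matrix.mulVec_smul,
      Matrix.mulVec_smul, ih j (by omega) (by omega), Matrix.mulVec_mulVec, ← pow_succ,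
      ih (j + 1) (by omega) (by omega), smul_zero, smul_zero, add_zero]

theorem nReg_pow_gv_self : ∀ i, i < 2 * m →
    ∃ c : F, c ≠ 0 ∧ (nReg m F) ^ i *ᵥ gv m F i = c • gv m F 0 := by
  intro i
  induction i with
  | zero => intro _; exact ⟨1, one_ne_zero, by simp⟩
  | succ i ih =>
    intro hi
    obtain ⟨c, d, hc, h⟩ := nReg_gv_succ (F := F) hi
    obtain ⟨e, he, h'⟩ := ih (by omega)
    refine ⟨c * e, mul_ne_zero hc he, ?_⟩
    rw [pow_succ, ← Matrix.mulVec_mulVec, h, Matrix.mulVec_add, Matrix.mulVec_smul,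
      Matrix.mulVec_smul, h', Matrix.mulVec_mulVec, ← pow_succ,
      nReg_pow_gv (i + 1) i (by omega) (by omega), smul_zero, add_zero, smul_smul]

theorem vec_eq_sum_gv (x : V) :
    ∃ a : ℕ → F, x = ∑ k ∈ Finset.range (2 * m), a k • gv m F k := by
  let a : ℕ → F := fun k => if h : k < m then x (Sum.inl ⟨k, h⟩) else
    if h' : 2 * m - 1 - k < m then x (Sum.inr ⟨2 * m - 1 - k, h'⟩) else 0
  refine ⟨a, ?_⟩
  rw [show 2 * m = m + m by omega, Finset.sum_range_add]
  conv_lhs => rw [vec_eq_sum x]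
  congr 1
  · rw [Finset.sum_range]
    refine Finset.sum_congr rfl fun i _ => ?_
    simp [a, gv, i.2]
  · rw [← Finset.sum_range_reflect, Finset.sum_range]
    refine Finset.sum_congr rfl fun i _ => ?_
    have hi := i.2
    have e : 2 * m - 1 - (m + (m - 1 - (i : ℕ))) = (i : ℕ) := by omega
    simp only [a, gv, if_neg (show ¬ m + (m - 1 - (i : ℕ)) < m by omega),
      dif_neg (show ¬ m + (m - 1 - (i : ℕ)) < m by omega), e, dif_pos hi]

theorem isNilpotent_nReg : IsNilpotent (nReg m F) := by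
  refine ⟨2 * m, Matrix.ext_iff_mulVec.2 fun x => ?_⟩
  obtain ⟨a, rfl⟩ := vec_eq_sum_gv x
  rw [Matrix.mulVec_sum, Matrix.zero_mulVec]
  refine Finset.sum_eq_zero fun k hk => ?_
  rw [Matrix.mulVec_smul, nReg_pow_gv _ _ (Finset.mem_range.1 hk) (Finset.mem_range.1 hk),
    smul_zero]

theorem ev_ne_zero {k : ℕ} (h : k < m) : (ev k : V) ≠ 0 := by
  rw [ev, dif_pos h]; simp

theorem nReg_pow_ne_zero (hm : 0 < m) : (nReg m F) ^ (2 * m - 1) ≠ 0 := by
  intro h
  obtain ⟨c, hc, h'⟩ := nReg_pow_gv_self (F := F) (2 * m - 1) (m := m) (by omega)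
  rw [h, Matrix.zero_mulVec, gv, if_pos hm] at h'
  exact smul_ne_zero hc (ev_ne_zero hm) h'.symm

/-- A non-zero subspace invariant under `u` contains `e_0`. -/
theorem ev_zero_mem_of_invariant (hm : 0 < m) {W : Submodule F V} (hW : W ≠ ⊥)
    (hu : ∀ x ∈ W, act (uReg m F) x ∈ W) : (ev 0 : V) ∈ W := by
  classical
  obtain ⟨x, hxW, hx0⟩ := W.exists_mem_ne_zero_of_ne_bot hW
  obtain ⟨a, ha⟩ := vec_eq_sum_gv x
  have hex : ∃ k ∈ Finset.range (2 * m), a k ≠ 0 := by
    by_contra h
    push Not at h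
    exact hx0 (by rw [ha]; exact Finset.sum_eq_zero fun k hk => by rw [h k hk, zero_smul])
  let S := (Finset.range (2 * m)).filter fun k => a k ≠ 0
  have hS : S.Nonempty := by
    obtain ⟨k, hk, hk'⟩ := hex
    exact ⟨k, Finset.mem_filter.2 ⟨hk, hk'⟩⟩
  set t := S.max' hS
  obtain ⟨ht, hat⟩ := Finset.mem_filter.1 (S.max'_mem hS)
  obtain ⟨c, hc, hcc⟩ := nReg_pow_gv_self (F := F) t (Finset.mem_range.1 ht)
  have hN : ∀ j, ∀ y ∈ W, (nReg m F) ^ j *ᵥ y ∈ W := by
    intro j
    induction j with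
    | zero => intro y hy; simpa using hy
    | succ j ih =>
      intro y hy
      rw [pow_succ, ← Matrix.mulVec_mulVec]
      refine ih _ ?_
      rw [nReg_mulVec]
      exact W.sub_mem (hu y hy) hy
  have h := hN t x hxW
  rw [ha, Matrix.mulVec_sum, Finset.sum_eq_single t ?_ (fun h' => absurd ht h'), Matrix.mulVec_smul,
    hcc, smul_smul, gv, if_pos hm] at h
  · have := W.smul_mem (a t * c)⁻¹ h
    rwa [smul_smul, inv_mul_cancel₀ (mul_ne_zero hat hc), one_smul] at this
  · intro b hb hbt
    by_cases hab : a b = 0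
    · rw [hab, zero_smul, Matrix.mulVec_zero]
    · have : b ≤ t := S.le_max' b (Finset.mem_filter.2 ⟨hb, hab⟩)
      rw [Matrix.mulVec_smul, nReg_pow_gv _ _ (by omega) (Finset.mem_range.1 hb), smul_zero]

end CfsgLib.SpThreeUnipotent
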